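import Cfsg.Agent.OddCyclic.CoverSz
import Cfsg.Agent.KFacts.MulDef
import Cfsg.Agent.S1162
import Mathlib
import Cfsg.Agent.OddHalf.NI3.Ex4.Cut_m3
import Cfsg.Agent.OddHalf.D9.MultAll
import Cfsg.Agent.KFacts.RuDbl.One
import Cfsg.Agent.OddHalf.D8.HS.Elim_m3
import Cfsg.Agent.KFacts.MM.OutC_m3
import Cfsg.Agent.OddHalf.D6.Final_m3
import Cfsg.Agent.OddHalf.D7F4.Adapted_m3
import Cfsg.Agent.OddHalf.NI3.Ex4.LargeP_m3
import Cfsg.Agent.OddHalf.NI.Ex.HasSuz_m3
import Cfsg.Agent.OddHalf.D8.SheetMap_m3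
import Cfsg.Agent.KFacts.Co1.CaseM_m3
import Cfsg.Agent.KFacts.J2.SheetX
import Cfsg.Agent.OddHalf.D9.FFour.Out_m3
import Cfsg.Agent.OddHalf.D9.Cut
import Cfsg.Agent.LThreeFour.Inv_m3
import Cfsg.Agent.OddHalf.D4.SpFourEnd_m3
import Cfsg.Agent.StandardComponent.SpTwoAut
import Cfsg.Agent.StdO8.Gen_m3
import Cfsg.Agent.StandardComponent.FiRedVec_mg_m3
import Cfsg.Agent.FastGrp
import Cfsg.Agent.Prune
set_option linter.all false

section
prune_inst 0x7ffcfef9abb83ddeffff7e7ff6fdcffdf9f83fffe6dff9cbffecf3ff1fdf4b06e9f5fbad0feb92ff0ef6621410b87b53fffffeffe36bdc7ffffd5ff45ffbee1ff7ffbd0d51d6a83e1ffc6ffffbf0f78e7f3fffffffffffffffffffffffffffbeffbfffffffff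

-- part: OddHalf/D4/Final/Mult
section
set_option linter.all false
open scoped Cfsg.Agent.FastGrp

-- merged: Cfsg.Agent.KFacts.Mult.SuzND
section

/-!
# `Sz(q)`, `q > 8`, has no perfect double cover
-/

set_option autoImplicit false

namespace Cfsg.Agent.KFacts.Mult.SuzND

open Subgroup Cfsg.Agent.KFacts.MulDef Cfsg.Agent.KFacts.MulTwo

/-- The centre of a perfect double cover of a group with trivial centre. -/
theorem center_eq_ker {L X : Type*} [Group L] [Group X] {π : L →* X} {c : L} (hd : Dbl π c)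
    (hX : center X = ⊥) : center L = π.ker := by
  ext z
  rw [MonoidHom.mem_ker]
  constructor
  · intro hz
    have h1 : π z ∈ center X := by
      rw [mem_center_iff]
      intro y
      obtain ⟨y, rfl⟩ := hd.surj y
      rw [← map_mul, ← map_mul, mem_center_iff.1 hz y]
    rwa [hX, mem_bot] at h1
  · intro hz
    rw [mem_center_iff]
    intro y
    rcases (hd.ker z).1 hz with rfl | rfl
    · rw [mul_one, one_mul]
    · exact (hd.cen y).symm

/-- The centre of a perfect simple group is trivial. -/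
theorem center_eq_bot_of_simple {X : Type*} [Group X] [IsSimpleGroup X] (h : commutator X = ⊤) : center X = ⊥ := by
  rcases (inferInstance : (center X).Normal).eq_bot_or_eq_top with h1 | h1
  · exact h1
  · exfalso
    have h2 : commutator X = ⊥ := by
      rw [commutator_def, Subgroup.commutator_eq_bot_iff_le_centralizer]
      intro x _
      rw [mem_centralizer_iff]
      intro y _
      have hx : x ∈ center X := by rw [h1]; trivial
      exact (mem_center_iff.1 hx y)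
    rw [h] at h2
    exact top_ne_bot h2

/-- **`Sz(q)`, `q > 8`, has no perfect double cover.** -/
theorem noDouble {F : Type} [Field F] [Fintype F] {m : ℕ} (hm : 2 ≤ m) (hF : Fintype.card F = 2 ^ (2 * m + 1)) :
    NoDouble ↥(Lie.Sz F (2 ^ (m + 1))) := by
  intro L _ _ π c hd
  have hs : IsSimpleGroup ↥(Lie.Sz F (2 ^ (m + 1))) := Cfsg.Agent.S1162.result (by omega) hF
  have hperf : commutator ↥(Lie.Sz F (2 ^ (m + 1))) = ⊤ := commutator_top_of_surj π hd.surj hd.perf
  have hker := center_eq_ker hd (center_eq_bot_of_simple hperf)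
  have h2 : IsPGroup 2 (center L) := by
    rintro ⟨z, hz⟩
    refine ⟨1, Subtype.ext ?_⟩
    show z ^ 2 ^ 1 = 1
    rw [hker, MonoidHom.mem_ker, hd.ker] at hz
    rcases hz with rfl | rfl
    · simp
    · rw [pow_one, pow_two, hd.sq]
  have e : L ⧸ center L ≃* ↥(Lie.Sz F (2 ^ (m + 1))) :=
    (QuotientGroup.quotientMulEquivOfEq hker).trans (QuotientGroup.quotientKerEquivOfSurjective π hd.surj)
  have h3 := Cfsg.Agent.OddCyclic.CoverSz.center_eq_bot hd.perf h2 hm hF e
  have h4 : c ∈ center L := by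
    rw [mem_center_iff]
    exact fun y => (hd.cen y).symm
  rw [h3, mem_bot] at h4
  exact hd.ne h4

end Cfsg.Agent.KFacts.Mult.SuzND

end

-- merged: Cfsg.Agent.OddHalf.D4.Final.Mult
section

/-!
# ODD half, D4: the multiplier facts (helper228, integrator)
-/

set_option autoImplicit false

namespace Cfsg.Agent.OddHalf.D4.Final.Mult

open Subgroup Cfsg Cfsg.Agent.OddHalf.D4 Cfsg.Agent.OddHalf.D4.MultOf

universe u

/-- the rows of `Ru` (theorems: `opn`) -/
structure Open : Prop where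
  /-- `Mult` of D9 -/
  two : D9.MultAll.Two.Missing.{u}
  ru : NonCyc.{u} (fun X _ => Spor.IsoRu X)

/-- the double cover of `Ru` is unique -/
theorem oneCover_ru (X : Type u) [Group X] (h : Spor.IsoRu X) : Cfsg.Agent.KFacts.MulBound.OneCover X := by
  obtain ⟨e⟩ := h
  exact Cfsg.Agent.KFacts.MulBaer.OneCover.congr Cfsg.Agent.KFacts.RuDbl.One.oneCover_spor e.symm

/-- there is no open row -/
theorem opn : Open.{u} where
  two := ⟨D9.MultOf.Bd.of_oneCover oneCover_ru⟩
  ru := NonCyc.of_oneCover oneCover_ru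

/-- **`Mult`** of D9. -/
theorem mult (o : Open.{u}) : D9.Cut.Mult.{u} := D9.MultAll.mult_of o.two

/-- **`MultD4`**. -/
theorem multD4 (o : Open.{u}) : Cut.MultD4.{u} :=
  multD4_of D9.MultAll.Spor.sporND D9.MultAll.Lie.lieND (NC.Inst.ncRows o.ru)
    (NC.Inst.vRows D9.RankTwo.RowsU.u62All
      (fun _ _ _ _ hm hF => KFacts.Mult.SuzND.noDouble hm hF))

end Cfsg.Agent.OddHalf.D4.Final.Mult

end
end

-- part: OddHalf/D4/Free/F4/BFac
section
prune_inst 0x1064444822100000000080210000005c0001920060000100400800080881400000090004100310110aaaa020000000000000c9402000000000000000040000000b020290580c00300000009084000000000000000000000000000000000004000000000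
set_option linter.all false
open scoped Cfsg.Agent.FastGrp

/-!
# ODD, D4, (1B): `BFacts K` for `K ≅ F₄(q)`, `q ≥ 4` even

`S` good. In adapted coordinates `f` (`D7F4/Adapted`): `S = f(U) C_S(K) ⟨g⟩`, `g` acts as a field or as a graph-field
automorphism, and `Z(S ∩ K) = f(X_ρ X_σ)`, `ρ` long, `σ` short. An element of `⟨g⟩` acting trivially on `f(X_ρ)`
centralizes `K`: `C_S(Z(S ∩ K)) = f(U) C_S(K)` (`cz_elt`).

* `Fr`, `exists_fr` : adapted coordinates;
* `bfacts`, `bfacts_of_equiv`.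
-/

set_option autoImplicit false
set_option Elab.async false
set_option linter.unusedSectionVars false

namespace Cfsg.Agent.OddHalf.D4.Free.F4.BFac

open CoxeterSystem Cfsg.Agent.ChevalleyStructure.CoxeterGeom Cfsg.Agent.Tits.Roots Cfsg.Agent.Tits.Core
open Cfsg.Lie Cfsg.Agent.ChevalleyStructure Cfsg.Agent.ChevalleyStructure.Elts
  Cfsg.Agent.ChevalleyStructure.RootVec Cfsg.Agent.ChevalleyStructure.CoxeterGeomTypes
open Cfsg.Agent.Nodes Cfsg.Agent.Nodes.Reps Cfsg.Agent.Nodes.BNOf Cfsg.Agent.Nodes.RGDChev Cfsg.Agent.Nodes.Coroot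
  Cfsg.Agent.Nodes.KindF Cfsg.Agent.KFacts.ChevTwo Cfsg.Agent.KFacts.ChevTwoTab
  Cfsg.Agent.KFacts.ChevTwoInst Cfsg.Agent.KFacts.RgdSys Cfsg.Agent.KFacts.RgdGraph
  Cfsg.Agent.KFacts.RgdGraphF4 Cfsg.Agent.KFacts.F4Pair
open Cfsg.Agent.OddHalf.D7F4 Cfsg.Agent.OddHalf.D7F4.Model Cfsg.Agent.OddHalf.D7F4.Adapted
open Cfsg.Agent.OddHalf.D4.Free Cfsg.Agent.KFacts.SysLine Cfsg.Agent.KFacts.SysFlt
open scoped commutatorElement

universe u

/-! ### Roots -/

/-- the highest root -/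
def ρ : Fin 4 → ℤ := ![2, 4, 3, 2]
/-- the highest short root -/
def σ : Fin 4 → ℤ := ![2, 3, 2, 1]

theorem ρ_mem : ρ ∈ rts := by decide +kernel
theorem σ_mem : σ ∈ rts := by decide +kernel
theorem ρσ : ρ ≠ σ := by decide +kernel
theorem dρ : B ρ ρ = 4 ∧ dual ρ = σ := by decide +kernel
/-- `ρ`, `σ` are dominant -/
theorem dom : ∀ a ∈ rts, (∀ i, 0 ≤ a i) → 0 ≤ B a ρ ∧ 0 ≤ B a σ := by decide +kernel

section Roots

variable {W : Type*} [Group W] (cs : CoxeterSystem CoxeterMatrix.F₄ W)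

theorem root_ρ : IsRoot cs isType.isCartan ρ := (KBridge.isRoot_iff' cs).2 ρ_mem
theorem root_σ : IsRoot cs isType.isCartan σ := (KBridge.isRoot_iff' cs).2 σ_mem

theorem cpr_nonneg {r a : Fin 4 → ℤ} (hr : r ∈ rts) (ha : a ∈ rts) (h : 0 ≤ B a r) :
    0 ≤ cpr cs isType.isCartan r a := by
  have h1 := KBridge.cpr_eq cs hr ha
  rw [B_symm r a] at h1
  rcases norm a ha with h2 | h2
  · rw [h2] at h1
    omega
  · rw [h2] at h1
    omega

theorem star_ρ : ρ ∈ KFacts.RgdCent.Star cs isType.isCartan (RGD.Pos cs isType.isCartan) := by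
  refine ⟨root_ρ cs, fun a ha => ?_⟩
  have h1 := (KBridge.isRoot_iff' cs).1 ha.1
  exact cpr_nonneg cs ρ_mem h1 (dom a h1 ha.2).1

theorem star_σ : σ ∈ KFacts.RgdCent.Star cs isType.isCartan (RGD.Pos cs isType.isCartan) := by
  refine ⟨root_σ cs, fun a ha => ?_⟩
  have h1 := (KBridge.isRoot_iff' cs).1 ha.1
  exact cpr_nonneg cs σ_mem h1 (dom a h1 ha.2).2

end Roots

variable {F : Type u} [Field F]

/-! ### Field and graph automorphisms in coordinates -/

section Act

variable {G : Type*} [Group G] {f : ↥(chevF4.group F) →* G}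

/-- `d` acts as the field automorphism `φ` -/
def Fld (f : ↥(chevF4.group F) →* G) (d : G) (φ : F ≃+* F) : Prop :=
  ∀ r ∈ rts, ∀ a, d * f (eF F r a) * d⁻¹ = f (eF F r (φ a))

/-- `d` acts as a graph automorphism with `φ` -/
def Gra (f : ↥(chevF4.group F) →* G) (d : G) (φ : F ≃+* F) : Prop :=
  (∀ r ∈ rts, B r r = 4 → ∀ a, d * f (eF F r a) * d⁻¹ = f (eF F (dual r) (φ a))) ∧
    ∀ r ∈ rts, B r r = 2 → ∀ a, d * f (eF F r a) * d⁻¹ = f (eF F (dual r) ((φ a) ^ 2))

theorem acts_iff {d : G} : Acts f d ↔ (∃ φ, Fld f d φ) ∨ ∃ φ, Gra f d φ := Iff.rfl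

theorem Fld.one : Fld f (1 : G) (RingEquiv.refl F) := by
  intro r _ a
  rw [one_mul, inv_one, mul_one]
  rfl

theorem cjm (d e : G) (y : ↥(chevF4.group F)) : d * e * f y * (d * e)⁻¹ = d * (e * f y * e⁻¹) * d⁻¹ := by
  group

theorem Fld.mul {d e : G} {φ ψ : F ≃+* F} (hd : Fld f d φ) (he : Fld f e ψ) : Fld f (d * e) (ψ.trans φ) := by
  intro r hr a
  rw [cjm, he r hr, hd r hr]
  rfl

theorem Fld.mul_gra {d e : G} {φ ψ : F ≃+* F} (hd : Fld f d φ) (he : Gra f e ψ) : Gra f (d * e) (ψ.trans φ) := by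
  refine ⟨fun r hr hB a => ?_, fun r hr hB a => ?_⟩
  · rw [cjm, he.1 r hr hB, hd _ (dual_mem r hr)]
    rfl
  · rw [cjm, he.2 r hr hB, hd _ (dual_mem r hr), map_pow]
    rfl

theorem Gra.mul_fld {d e : G} {φ ψ : F ≃+* F} (hd : Gra f d φ) (he : Fld f e ψ) : Gra f (d * e) (ψ.trans φ) := by
  refine ⟨fun r hr hB a => ?_, fun r hr hB a => ?_⟩
  · rw [cjm, he r hr, hd.1 r hr hB]
    rfl
  · rw [cjm, he r hr, hd.2 r hr hB]
    rfl

variable [Finite F] [CharP F 2]

theorem Gra.mul {d e : G} {φ ψ : F ≃+* F} (hd : Gra f d φ) (he : Gra f e ψ) : ∃ χ, Fld f (d * e) χ := by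
  obtain ⟨fr, hfr, -⟩ := exists_frob (F := F)
  refine ⟨(ψ.trans φ).trans fr, fun r hr a => ?_⟩
  have h2 : ((ψ.trans φ).trans fr) a = (φ (ψ a)) ^ 2 := hfr _
  rw [cjm, h2]
  rcases norm r hr with hB | hB
  · rw [he.2 r hr hB, hd.1 _ (dual_mem r hr) (dn2 r hr hB), dual_dual r hr, map_pow]
  · rw [he.1 r hr hB, hd.2 _ (dual_mem r hr) (dn4 r hr hB), dual_dual r hr]

theorem acts_mul {d e : G} (hd : Acts f d) (he : Acts f e) : Acts f (d * e) := by
  rw [acts_iff] at *
  rcases hd with ⟨φ, hd⟩ | ⟨φ, hd⟩ <;> rcases he with ⟨ψ, he⟩ | ⟨ψ, he⟩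
  · exact Or.inl ⟨_, hd.mul he⟩
  · exact Or.inr ⟨_, hd.mul_gra he⟩
  · exact Or.inr ⟨_, hd.mul_fld he⟩
  · exact Or.inl (hd.mul he)

theorem acts_pow {d : G} (hd : Acts f d) (n : ℕ) : Acts f (d ^ n) := by
  induction n with
  | zero =>
    rw [pow_zero]
    exact Or.inl ⟨_, Fld.one⟩
  | succ n ih =>
    rw [pow_succ]
    exact acts_mul ih hd

theorem acts_zpow [Finite G] {d : G} (hd : Acts f d) (n : ℤ) : Acts f (d ^ n) := by
  obtain ⟨m, hm⟩ : d ^ n ∈ Submonoid.powers d := (isOfFinOrder_of_finite d).mem_powers_iff_mem_zpowers.2 ⟨n, rfl⟩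
  have hm' : d ^ m = d ^ n := hm
  rw [← hm']
  exact acts_pow hd m

end Act

section Elts

variable {W : Type*} [Group W] (cs : CoxeterSystem CoxeterMatrix.F₄ W) [Finite F] [CharP F 2]

theorem hG1 : RGD.Sup (XF F) {x | IsRoot cs isType.isCartan x} = ⊤ := G1_eq_top isType cs

theorem mem_X {r : Fin 4 → ℤ} (hr : r ∈ rts) (a : F) : eF F r a ∈ XF F r := by
  have hr' := (KBridge.isRoot_iff' CoxeterMatrix.F₄.toCoxeterSystem).2 hr
  have hW : Finite CoxeterMatrix.F₄.Group := finite_W isType CoxeterMatrix.F₄.toCoxeterSystem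
  exact (sysF (K := F) CoxeterMatrix.F₄.toCoxeterSystem).mem hr' a

theorem e_inj {r : Fin 4 → ℤ} (hr : r ∈ rts) {a b : F} (h : eF F r a = eF F r b) : a = b :=
  (sysF (K := F) CoxeterMatrix.F₄.toCoxeterSystem).data.injective
    ((KBridge.isRoot_iff' CoxeterMatrix.F₄.toCoxeterSystem).2 hr) h

theorem e_add {r : Fin 4 → ℤ} (hr : r ∈ rts) (a b : F) : eF F r (a + b) = eF F r a * eF F r b :=
  (sysF (K := F) CoxeterMatrix.F₄.toCoxeterSystem).data.add r
    ((KBridge.isRoot_iff' CoxeterMatrix.F₄.toCoxeterSystem).2 hr) a b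

theorem e_sq {r : Fin 4 → ℤ} (hr : r ∈ rts) (a : F) : eF F r a * eF F r a = 1 :=
  (sysF (K := F) CoxeterMatrix.F₄.toCoxeterSystem).data.sq
    ((KBridge.isRoot_iff' CoxeterMatrix.F₄.toCoxeterSystem).2 hr) a

theorem e_zero {r : Fin 4 → ℤ} (hr : r ∈ rts) : eF F r 0 = 1 := by
  have h1 := e_add hr (0 : F) 0
  rw [add_zero] at h1
  exact (left_eq_mul.1 h1)

theorem e_ne {r : Fin 4 → ℤ} (hr : r ∈ rts) {a : F} (ha : a ≠ 0) : eF F r a ≠ 1 := by
  intro h
  rw [← e_zero hr] at h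
  exact ha (e_inj hr h)

/-- different root groups meet trivially -/
theorem e_ind {r s : Fin 4 → ℤ} (hr : r ∈ rts) (hs : s ∈ rts) (hne : r ≠ s) {a b : F} (h : eF F r a = eF F s b) :
    a = 0 := by
  by_contra ha
  have hW : Finite CoxeterMatrix.F₄.Group := finite_W isType CoxeterMatrix.F₄.toCoxeterSystem
  have h1 := Nodes.OppDec.X_inf_X (rgd (K := F) isType CoxeterMatrix.F₄.toCoxeterSystem 2)
    ((KBridge.isRoot_iff' CoxeterMatrix.F₄.toCoxeterSystem).2 hr)
    ((KBridge.isRoot_iff' CoxeterMatrix.F₄.toCoxeterSystem).2 hs) hne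
  rw [Subgroup.eq_bot_iff_forall] at h1
  refine e_ne hr ha (h1 _ ⟨mem_X hr a, ?_⟩)
  rw [h]
  exact mem_X hs b

variable {G : Type*} [Group G] {f : ↥(chevF4.group F) →* G}

/-- no field part: `d` centralizes `K` -/
theorem comm_of_fld {d : G} {φ : F ≃+* F} (hd : Fld f d φ) (h : ∀ a, φ a = a) :
    d ∈ Subgroup.centralizer (f.range : Set G) := by
  have h1 : (⊤ : Subgroup ↥(chevF4.group F)) ≤ (Subgroup.centralizer ({d} : Set G)).comap f := by
    rw [← hG1 (F := F) CoxeterMatrix.F₄.toCoxeterSystem]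
    refine RGD.Sup_le fun x hx y hy => ?_
    obtain ⟨a, rfl⟩ := ((sysF (K := F) CoxeterMatrix.F₄.toCoxeterSystem).mem_X x hx y).1 hy
    show f (eF F x a) ∈ Subgroup.centralizer ({d} : Set G)
    rw [Subgroup.mem_centralizer_singleton_iff]
    have h2 := hd x ((KBridge.isRoot_iff' _).1 hx) a
    rw [h a] at h2
    calc f (eF F x a) * d = (d * f (eF F x a) * d⁻¹) * d := by rw [h2]
      _ = d * f (eF F x a) := by group
  rw [Subgroup.mem_centralizer_iff]
  rintro _ ⟨y, rfl⟩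
  exact Subgroup.mem_centralizer_singleton_iff.1 (h1 (Subgroup.mem_top y))

/-- **An element acting in coordinates and centralizing `f(X_ρ)` centralizes `K`.** -/
theorem cent_of_comm (hf : Function.Injective f) {d : G} (hd : Acts f d)
    (h : ∀ a : F, f (eF F ρ a) * d = d * f (eF F ρ a)) : d ∈ Subgroup.centralizer (f.range : Set G) := by
  rcases acts_iff.1 hd with ⟨φ, hφ⟩ | ⟨φ, hφ⟩
  · refine comm_of_fld hφ fun a => ?_
    have h1 := hφ ρ ρ_mem a
    rw [← h, mul_inv_cancel_right] at h1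
    exact (e_inj ρ_mem (hf h1)).symm
  · exfalso
    have h1 := hφ.1 ρ ρ_mem dρ.1 1
    rw [← h, mul_inv_cancel_right, dρ.2] at h1
    exact one_ne_zero (e_ind ρ_mem σ_mem ρσ (hf h1))

end Elts

/-! ### Adapted coordinates -/

section Fr

variable [Finite F] [CharP F 2] {G : Type*} [Group G]

/-- the Coxeter system -/
abbrev cF : CoxeterSystem CoxeterMatrix.F₄ CoxeterMatrix.F₄.Group := CoxeterMatrix.F₄.toCoxeterSystem

/-- the unipotent group -/
abbrev UF (F : Type u) [Field F] : Subgroup ↥(chevF4.group F) := RGD.Sup (XF F) (RGD.Pos cF isType.isCartan)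

/-- adapted coordinates for `S` -/
structure Fr (f : ↥(chevF4.group F) →* G) (K₀ S : Subgroup G) (g : G) : Prop where
  std : KFacts.SysFree.Std cF isType.isCartan (XF F) K₀ S f
  gS : g ∈ S
  acts : Acts f g
  gen : ∀ x ∈ S, ∃ m : ℤ, ∃ u ∈ UF F, ∃ c ∈ S, (∀ y, c * f y = f y * c) ∧ x = f u * c * g ^ m

variable [Finite G] {K₀ S : Subgroup G}

theorem exists_fr {f : ↥(chevF4.group F) →* G} (hf : Function.Injective f) (hK : f.range = K₀) (hS : Good K₀ S) :
    ∃ f' g, Fr (F := F) f' K₀ S g := by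
  subst hK
  have hY : Finite ↥(chevF4.group F) := Finite.of_injective f hf
  have hW : Finite CoxeterMatrix.F₄.Group := finite_W isType cF
  obtain ⟨g₀, hg₀⟩ := KFacts.SysFree.exists_std (R := rgd (K := F) isType cF 2) (hG1 cF) hf hS
  obtain ⟨f₁, hf₁⟩ : ∃ f₁, f₁ = f.comp (MulAut.conj g₀).toMonoidHom := ⟨_, rfl⟩
  rw [← hf₁] at hg₀
  have hi : Function.Injective f₁ := by rw [hf₁]; exact hf.comp (MulAut.conj g₀).injective
  have hr : f₁.range = f.range := by rw [hf₁]; exact KFacts.SysFree.range_comp_conj f g₀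
  have hUS : (UF F).map f₁ ≤ S := by rw [← hg₀]; exact inf_le_left
  have hSU : S ≤ Subgroup.normalizer (((UF F).map f₁ : Subgroup G) : Set G) := by
    intro x hx
    rw [← hg₀, Subgroup.mem_normalizer_iff]
    intro y
    rw [Subgroup.mem_inf, Subgroup.mem_inf, ← Subgroup.mem_normalizer_iff.1 (hS.le hx) y]
    constructor
    · rintro ⟨h1, h2⟩
      exact ⟨mul_mem (mul_mem hx h1) (inv_mem hx), h2⟩
    · rintro ⟨h1, h2⟩
      refine ⟨?_, h2⟩
      have := mul_mem (mul_mem (inv_mem hx) h1) hx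
      have h3 : x⁻¹ * (x * y * x⁻¹) * x = y := by group
      rwa [h3] at this
  obtain ⟨s, hs, g, hg, hA, hgen⟩ := exists_gen cF hi hS.two (by rw [hr]; exact hS.le) hSU hUS
  have hU : (UF F).map (cf f₁ s) = (UF F).map f₁ := cf_map f₁ (norm_U cF hs)
  have hcomm : ∀ c : G, (∀ y, c * f₁ y = f₁ y * c) → ∀ y, c * cf f₁ s y = cf f₁ s y * c := fun c hc y => hc _
  refine ⟨cf f₁ s, g, ⟨⟨cf_inj hi s, by rw [cf_range, hr], hS.two, hS.le, by rw [hU]; exact hg₀⟩, hg, hA,
    fun x hx => ?_⟩⟩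
  obtain ⟨m, u, hu, c, hc, hcf, e⟩ := hgen x hx
  exact ⟨m, u, hu, c, hc, hcomm c hcf, e⟩

end Fr

/-! ### The facts -/

section Facts

variable [Finite F] [CharP F 2] {G : Type*} [Group G] [Finite G] {K₀ S : Subgroup G}
  {f : ↥(chevF4.group F) →* G} {g : G} (O : Fr (F := F) f K₀ S g)

include O

theorem Fr.mem_zc {r : Fin 4 → ℤ} (hr : r ∈ KFacts.RgdCent.Star cF isType.isCartan (RGD.Pos cF isType.isCartan)) (a : F) :
    f (eF F r a) ∈ zc K₀ S := by
  have hW : Finite CoxeterMatrix.F₄.Group := finite_W isType cF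
  have hr' := KFacts.SysFree.star_pos hr
  have h1 := mem_X ((KBridge.isRoot_iff' cF).1 hr.1) a
  exact O.std.mem_zc.2 ⟨_, RGD.le_Sup hr' h1, fun u hu =>
    KFacts.SysFree.star_comm_U (sysF (K := F) cF) hr h1 hu, rfl⟩

/-- the action of `S` on `Z(S ∩ K)` -/
theorem Fr.conj_zc {u : ↥(chevF4.group F)} (hu : u ∈ UF F) {c : G} (hc : ∀ y, c * f y = f y * c) {z : G}
    (hz : z ∈ zc K₀ S) : f u * c * z * (f u * c)⁻¹ = z := by
  obtain ⟨y, hy, hyc, rfl⟩ := O.std.mem_zc.1 hz
  rw [mul_assoc (f u), hc, ← mul_assoc (f u), ← map_mul, hyc u hu, map_mul]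
  group

/-- **`C_S(Z(S ∩ K)) = f(U) C_S(K)`** -/
theorem Fr.cz_elt {x : G} (hx : x ∈ S) (hxz : x ∈ cz K₀ S) :
    ∃ u ∈ UF F, ∃ c ∈ Subgroup.centralizer (K₀ : Set G), x = f u * c := by
  obtain ⟨m, u, hu, c, hc, hcf, e⟩ := O.gen x hx
  have h1 : g ^ m ∈ Subgroup.centralizer (f.range : Set G) := by
    refine cent_of_comm O.std.inj (acts_zpow O.acts m) fun a => ?_
    have hz := O.mem_zc (star_ρ cF) a
    have h2 := mem_cz.1 hxz _ hz
    have h3 := O.conj_zc hu hcf hz
    have h4 : (f u * c) * f (eF F ρ a) = f (eF F ρ a) * (f u * c) := by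
      calc (f u * c) * f (eF F ρ a) = f u * c * f (eF F ρ a) * (f u * c)⁻¹ * (f u * c) := by group
        _ = _ := by rw [h3]
    rw [e] at h2
    have h5 : (f u * c) * (f (eF F ρ a) * g ^ m) = (f u * c) * (g ^ m * f (eF F ρ a)) := by
      rw [← mul_assoc, h4, mul_assoc, h2]
      group
    exact mul_left_cancel h5
  rw [O.std.range] at h1
  refine ⟨u, hu, c * g ^ m, mul_mem ?_ h1, by rw [e, mul_assoc]⟩
  rw [← O.std.range, Subgroup.mem_centralizer_iff]
  rintro _ ⟨y, rfl⟩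
  exact (hcf y).symm

theorem Fr.inner {x : G} (hx : x ∈ S) (hxz : x ∈ cz K₀ S) : Inner K₀ x := by
  obtain ⟨u, hu, c, hc, e⟩ := O.cz_elt hx hxz
  have hK : f u ∈ K₀ := by rw [← O.std.range]; exact ⟨u, rfl⟩
  exact ⟨c, hc, f u, hK, by rw [e]; exact Subgroup.mem_centralizer_iff.1 hc _ hK⟩

/-- **(k0)** -/
theorem Fr.k0 {z : G} (hz : z ∈ zc K₀ S) : z * z = 1 := by
  have hW : Finite CoxeterMatrix.F₄.Group := finite_W isType cF
  obtain ⟨y, hy, hyc, rfl⟩ := O.std.mem_zc.1 hz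
  rw [← map_mul, KFacts.SysFree.star_sq (sysF (K := F) cF)
    (KFacts.SysFree.center_le (sysF (K := F) cF) (hG1 cF) (noCent cF) hconn_F4 hyc), map_one]

/-- **(k1)** -/
theorem Fr.k1 {a b : G} (ha : a ∈ S) (hb : b ∈ S) (haa : a * a ∈ cz K₀ S) (hbb : b * b ∈ cz K₀ S) :
    a ∈ cz K₀ S ∨ b ∈ cz K₀ S ∨ a⁻¹ * b ∈ cz K₀ S := by
  have hn : ((cz K₀ S).subgroupOf S).Normal := by
    constructor
    rintro ⟨x, hx⟩ hxz ⟨s, hs⟩
    rw [Subgroup.mem_subgroupOf] at hxz ⊢
    exact cz_conj O.std.le hs hxz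
  have hcyc : IsCyclic (↥S ⧸ (cz K₀ S).subgroupOf S) := by
    refine ⟨⟨QuotientGroup.mk ⟨g, O.gS⟩, fun q => ?_⟩⟩
    obtain ⟨⟨x, hx⟩, rfl⟩ := QuotientGroup.mk_surjective q
    obtain ⟨m, u, hu, c, hc, hcf, e⟩ := O.gen x hx
    refine ⟨m, ?_⟩
    show (QuotientGroup.mk (⟨g, O.gS⟩ : ↥S) : ↥S ⧸ (cz K₀ S).subgroupOf S) ^ m = _
    rw [← QuotientGroup.mk_zpow, eq_comm, QuotientGroup.eq_iff_div_mem, div_eq_mul_inv, Subgroup.mem_subgroupOf,
      Subgroup.coe_mul, Subgroup.coe_inv, Subgroup.coe_zpow]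
    show x * (g ^ m)⁻¹ ∈ cz K₀ S
    rw [e, mul_inv_cancel_right, mem_cz]
    intro z hz
    have h1 := O.conj_zc hu hcf hz
    calc z * (f u * c) = (f u * c * z * (f u * c)⁻¹) * (f u * c) := by rw [h1]
      _ = f u * c * z := by group
  have key : ∀ {x : G} (hx : x ∈ S), (QuotientGroup.mk (⟨x, hx⟩ : ↥S) : ↥S ⧸ (cz K₀ S).subgroupOf S) = 1 ↔
      x ∈ cz K₀ S := by
    intro x hx
    rw [QuotientGroup.eq_one_iff, Subgroup.mem_subgroupOf]
  have hA : (QuotientGroup.mk (⟨a, ha⟩ : ↥S) : ↥S ⧸ (cz K₀ S).subgroupOf S) * QuotientGroup.mk (⟨a, ha⟩ : ↥S) = 1 :=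
    (key (mul_mem ha ha)).2 haa
  have hB : (QuotientGroup.mk (⟨b, hb⟩ : ↥S) : ↥S ⧸ (cz K₀ S).subgroupOf S) * QuotientGroup.mk (⟨b, hb⟩ : ↥S) = 1 :=
    (key (mul_mem hb hb)).2 hbb
  rcases KFacts.SysFree.cyclic_two hA hB with h1 | h1 | h1
  · exact Or.inl ((key ha).1 h1)
  · exact Or.inr (Or.inl ((key hb).1 h1))
  · right; right
    rw [QuotientGroup.eq, Subgroup.mem_subgroupOf] at h1
    exact h1

/-- **(k3)** -/
theorem Fr.k3 (hq : 2 < Nat.card F) : FltS K₀ S (fun j => (UH cF isType.isCartan (XF F) j).map f)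
    (fun j => {l | ∃ r, r ∈ RGD.Pos cF isType.isCartan ∧ ht r = j + 1 ∧ l = (XF F r).map f}) where
  zero := by
    rw [O.std.inf]
    show (UH cF isType.isCartan (XF F) 0).map f = _
    rw [UH_zero]
  bot := by
    have hW : Finite CoxeterMatrix.F₄.Group := finite_W isType cF
    obtain ⟨n, hn⟩ := UH_bot (cs := cF) (h := isType.isCartan) (X := XF F)
    exact ⟨n, by rw [hn, Subgroup.map_bot]⟩
  le j := Subgroup.map_mono (UH_le (Nat.le_succ j))
  gen := by
    have hW : Finite CoxeterMatrix.F₄.Group := finite_W isType cF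
    rintro j _ ⟨u, hu, rfl⟩
    have h1 : Subgroup.closure ({x | ∃ r, r ∈ RGD.Pos cF isType.isCartan ∧ ht r = j + 1 ∧ x ∈ XF F r} ∪
        (UH cF isType.isCartan (XF F) (j + 1) : Set _)) ≤ (Subgroup.closure ({x | ∃ l ∈ {l | ∃ r,
          r ∈ RGD.Pos cF isType.isCartan ∧ ht r = j + 1 ∧ l = (XF F r).map f}, x ∈ l} ∪
          (((UH cF isType.isCartan (XF F) (j + 1)).map f : Subgroup G) : Set G))).comap f := by
      rw [Subgroup.closure_le]
      rintro x (⟨r, hr, hrj, hx⟩ | hx)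
      · exact Subgroup.subset_closure (Or.inl ⟨_, ⟨r, hr, hrj, rfl⟩, x, hx, rfl⟩)
      · exact Subgroup.subset_closure (Or.inr ⟨x, hx, rfl⟩)
    exact h1 (UH_gen (sysF (K := F) cF) j hu)
  line_le := by
    rintro j _ ⟨r, hr, hrj, rfl⟩
    exact Subgroup.map_mono (RGD.le_Sup (S := {r | r ∈ RGD.Pos cF isType.isCartan ∧ (j : ℤ) < ht r}) ⟨hr, by omega⟩)
  line := by
    have hW : Finite CoxeterMatrix.F₄.Group := finite_W isType cF
    rintro j _ ⟨r, hr, hrj, rfl⟩
    have hrr := (KBridge.isRoot_iff' cF).1 hr.1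
    have hout : ∀ a : F, a ≠ 0 → f (eF F r a) ∉ (UH cF isType.isCartan (XF F) (j + 1)).map f := by
      rintro a ha ⟨y, hy, e⟩
      have e' := O.std.inj e
      subst e'
      exact e_ne hrr ha (X_inf_UH (sysF (K := F) cF) hr (by rw [hrj]; push_cast; exact le_rfl) (mem_X hrr a) hy)
    refine ⟨?_, ?_, ?_⟩
    · rintro _ ⟨x, hx, rfl⟩
      obtain ⟨a, rfl⟩ := ((sysF (K := F) cF).mem_X r hr.1 x).1 hx
      rw [← map_mul, e_sq hrr, map_one]
      exact one_mem _
    · obtain ⟨b, hb0, hb1⟩ : ∃ b : F, b ≠ 0 ∧ b ≠ 1 := by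
        by_contra hcon
        push Not at hcon
        classical
        have := Fintype.ofFinite F
        have h4 : (Finset.univ : Finset F) ⊆ {0, 1} := by
          intro b _
          by_cases hb : b = 0
          · simp [hb]
          · simp [hcon b hb]
        have h5 := Finset.card_le_card h4
        have h6 : ({0, 1} : Finset F).card ≤ 2 := Finset.card_le_two
        rw [Finset.card_univ, ← Nat.card_eq_fintype_card] at h5
        omega
      have h1b : 1 + b ≠ 0 := by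
        intro h4
        apply hb1
        have h5 : b + 1 = 1 + 1 := by rw [add_comm b 1, h4, CharTwo.add_self_eq_zero]
        exact add_right_cancel h5
      refine ⟨f (eF F r 1), ⟨_, mem_X hrr 1, rfl⟩, f (eF F r b), ⟨_, mem_X hrr b, rfl⟩, hout 1 one_ne_zero,
        hout b hb0, ?_⟩
      have h1 : (f (eF F r 1))⁻¹ = f (eF F r 1) := by
        rw [← map_inv, inv_eq_of_mul_eq_one_right (e_sq hrr (1 : F))]
      rw [h1, ← map_mul, ← e_add hrr]
      exact hout _ h1b
    · rintro y hy hyz - _ ⟨x, hx, rfl⟩ hx1 hxy _ ⟨x', hx', rfl⟩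
      obtain ⟨u, hu, c, hc, rfl⟩ := O.cz_elt hy hyz
      rw [← O.std.range] at hc
      have hc' : ∀ z, f z * c = c * f z := fun z => Subgroup.mem_centralizer_iff.1 hc _ ⟨z, rfl⟩
      have h1 : x ≠ 1 := by
        rintro rfl
        exact hx1 (by rw [map_one]; exact one_mem _)
      have h2 : u * x = x * u := by
        apply O.std.inj
        rw [map_mul, map_mul]
        have h3 : f u * f x * c = f x * f u * c := by
          rw [mul_assoc, hc' x, ← mul_assoc, ← hxy, mul_assoc]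
        exact mul_right_cancel h3
      have h3 := comm_all (sysF (K := F) cF) (hG1 cF) hr.1 hx h1 h2 hx'
      calc f x' * (f u * c) = f (x' * u) * c := by rw [map_mul, mul_assoc]
        _ = f u * (f x' * c) := by rw [← h3, map_mul, mul_assoc]
        _ = f u * c * f x' := by rw [hc' x', mul_assoc]
  fix := by
    have hW : Finite CoxeterMatrix.F₄.Group := finite_W isType cF
    rintro j _ ⟨r, hr, hrj, rfl⟩ _ ⟨x, hx, rfl⟩ y hy hyz
    obtain ⟨u, hu, c, hc, rfl⟩ := O.cz_elt hy hyz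
    rw [← O.std.range] at hc
    have hc' : ∀ z, f z * c = c * f z := fun z => Subgroup.mem_centralizer_iff.1 hc _ ⟨z, rfl⟩
    have h1 : f u * c * f x * (f u * c)⁻¹ * (f x)⁻¹ = f ⁅u, x⁆ := by
      rw [commutatorElement_def, map_mul, map_mul, map_mul, map_inv, map_inv]
      calc f u * c * f x * (f u * c)⁻¹ * (f x)⁻¹ = f u * (c * f x) * c⁻¹ * (f u)⁻¹ * (f x)⁻¹ := by group
        _ = _ := by rw [← hc' x]; group
    rw [h1]
    exact ⟨_, UH_comm (sysF (K := F) cF) (by rw [UH_zero]; exact hu)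
      (RGD.le_Sup (S := {r | r ∈ RGD.Pos cF isType.isCartan ∧ (j : ℤ) < ht r}) ⟨hr, by omega⟩ hx), rfl⟩

/-- **(k5), (c1)** -/
theorem Fr.k5 (hq : 2 < Nat.card F) {x : G} (hx : x ∈ S) (hxz : x ∉ cz K₀ S) :
    ∃ a ∈ zc K₀ S, ∃ b ∈ zc K₀ S, a * x ≠ x * a ∧ b * x ≠ x * b ∧ a * b * x ≠ x * (a * b) := by
  obtain ⟨m, u, hu, c, hc, hcf, e⟩ := O.gen x hx
  -- the action on `Z(S ∩ K)` is the action of `g ^ m`
  have hact : ∀ z ∈ zc K₀ S, (z * x = x * z ↔ g ^ m * z * (g ^ m)⁻¹ = z) := by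
    intro z hz
    have hgz : g ^ m * z * (g ^ m)⁻¹ ∈ zc K₀ S := zc_conj O.std.le (zpow_mem O.gS m) hz
    have h1 := O.conj_zc hu hcf hgz
    have h2 : x * z * x⁻¹ = g ^ m * z * (g ^ m)⁻¹ := by
      rw [← h1, e]; group
    rw [← h2]
    constructor
    · intro h3
      rw [← h3, mul_inv_cancel_right]
    · intro h3
      calc z * x = (x * z * x⁻¹) * x := by rw [h3]
        _ = x * z := by group
  have hρ := fun a : F => O.mem_zc (star_ρ cF) a
  have hσ := fun a : F => O.mem_zc (star_σ cF) a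
  rcases acts_iff.1 (acts_zpow O.acts m) with ⟨φ, hφ⟩ | ⟨φ, hφ⟩
  · -- field type
    obtain ⟨a, ha⟩ : ∃ a, φ a ≠ a := by
      by_contra hcon
      push Not at hcon
      apply hxz
      have h1 := comm_of_fld hφ hcon
      rw [mem_cz]
      intro z hz
      rw [hact z hz]
      obtain ⟨y, hy, -, rfl⟩ := O.std.mem_zc.1 hz
      rw [← Subgroup.mem_centralizer_iff.1 h1 (f y) ⟨y, rfl⟩, mul_inv_cancel_right]
    refine ⟨_, hρ a, _, hσ a, ?_, ?_, ?_⟩
    · rw [ne_eq, hact _ (hρ a), hφ ρ ρ_mem]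
      exact fun h => ha (e_inj ρ_mem (O.std.inj h))
    · rw [ne_eq, hact _ (hσ a), hφ σ σ_mem]
      exact fun h => ha (e_inj σ_mem (O.std.inj h))
    · rw [ne_eq, hact _ (mul_mem (hρ a) (hσ a))]
      have h1 : g ^ m * (f (eF F ρ a) * f (eF F σ a)) * (g ^ m)⁻¹ =
          (g ^ m * f (eF F ρ a) * (g ^ m)⁻¹) * (g ^ m * f (eF F σ a) * (g ^ m)⁻¹) := by group
      rw [h1, hφ ρ ρ_mem, hφ σ σ_mem, ← map_mul, ← map_mul]
      intro h
      have h2 := O.std.inj h
      have h3 : eF F ρ (a + φ a) = eF F σ (a + φ a) := by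
        rw [e_add ρ_mem, e_add σ_mem]
        have h4 : (eF F ρ a)⁻¹ = eF F ρ a := inv_eq_of_mul_eq_one_right (e_sq ρ_mem a)
        have h5 : (eF F σ (φ a))⁻¹ = eF F σ (φ a) := inv_eq_of_mul_eq_one_right (e_sq σ_mem _)
        calc eF F ρ a * eF F ρ (φ a) = (eF F ρ a)⁻¹ * (eF F ρ (φ a) * eF F σ (φ a)) * (eF F σ (φ a))⁻¹ := by
              rw [h4]; group
          _ = (eF F ρ a)⁻¹ * (eF F ρ a * eF F σ a) * (eF F σ (φ a))⁻¹ := by rw [h2]
          _ = eF F σ a * eF F σ (φ a) := by rw [h5]; group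
      have h4 := e_ind ρ_mem σ_mem ρσ h3
      apply ha
      have h5 : a + φ a = a + a := by rw [h4, CharTwo.add_self_eq_zero]
      exact add_left_cancel h5
  · -- graph type
    have hmove : ∀ a : F, a ≠ 0 → f (eF F ρ a) * x ≠ x * f (eF F ρ a) := by
      intro a ha
      rw [ne_eq, hact _ (hρ a), hφ.1 ρ ρ_mem dρ.1, dρ.2]
      exact fun h => ha (e_ind ρ_mem σ_mem ρσ (O.std.inj h.symm))
    obtain ⟨b, hb0, hb1⟩ : ∃ b : F, b ≠ 0 ∧ b ≠ 1 := by
      by_contra hcon
      push Not at hcon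
      classical
      have := Fintype.ofFinite F
      have h4 : (Finset.univ : Finset F) ⊆ {0, 1} := by
        intro b _
        by_cases hb : b = 0
        · simp [hb]
        · simp [hcon b hb]
      have h5 := Finset.card_le_card h4
      have h6 : ({0, 1} : Finset F).card ≤ 2 := Finset.card_le_two
      rw [Finset.card_univ, ← Nat.card_eq_fintype_card] at h5
      omega
    have h1b : 1 + b ≠ 0 := by
      intro h4
      apply hb1
      have h5 : b + 1 = 1 + 1 := by rw [add_comm b 1, h4, CharTwo.add_self_eq_zero]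
      exact add_right_cancel h5
    refine ⟨_, hρ 1, _, hρ b, hmove 1 one_ne_zero, hmove b hb0, ?_⟩
    rw [← map_mul, ← e_add ρ_mem]
    exact hmove _ h1b

end Facts

/-! ### End -/

section End

variable [Finite F] [CharP F 2] {G : Type*} [Group G] [Finite G] {K₀ : Subgroup G}

/-- **`BFacts` for `F₄(q)`, `q > 2` even.** -/
theorem bfacts (hq : 2 < Nat.card F) {f : ↥(chevF4.group F) →* G} (hf : Function.Injective f) (hK : f.range = K₀) :
    BFacts K₀ where
  sq S hS z hz := by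
    obtain ⟨f', g, O⟩ := exists_fr hf hK hS
    exact O.k0 hz
  cyc S hS a ha b hb haa hbb := by
    obtain ⟨f', g, O⟩ := exists_fr hf hK hS
    exact O.k1 ha hb haa hbb
  field S S₁ hS hS₁ e he hez := field_free hS hS₁ he hez
  line := line_of_fltS fun S hS => by
    obtain ⟨f', g, O⟩ := exists_fr hf hK hS
    exact ⟨_, _, O.k3 hq⟩
  graph S hS a ha b hb haz hbz := by
    obtain ⟨f', g, O⟩ := exists_fr hf hK hS
    exact Or.inl (O.inner ha haz)
  out := Or.inl fun S hS x hx hxz => by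
    obtain ⟨f', g, O⟩ := exists_fr hf hK hS
    exact O.k5 hq hx hxz

theorem bfacts_of_equiv (hq : 2 < Nat.card F) (e : ↥(chevF4.group F) ≃* ↥K₀) : BFacts K₀ :=
  bfacts hq (f := K₀.subtype.comp e.toMonoidHom) (Subtype.val_injective.comp e.injective) (by
    rw [MonoidHom.range_comp, MonoidHom.range_eq_top.2 e.surjective, ← MonoidHom.range_eq_map, Subgroup.range_subtype])

end End

end Cfsg.Agent.OddHalf.D4.Free.F4.BFac
end

-- part: OddHalf/NI3/Ex4/RowsOf
section
prune_inst 0x400000100000000080210020400c0000920023000110000a000202912000002700040008100902222400080000000000090000000020000000011800800002000201000000000000001084000000000000000000000000000000041004000000000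
set_option linter.all false
open scoped Cfsg.Agent.FastGrp

-- merged: Cfsg.Agent.OddHalf.NI3.Ex4.OfSheet
section

/-!
# (EX4): the rows with a perfect sheet

`large4_of_sheet` : `SheetX z C(z) R` gives `Large4 z ⟨z⟩`; `row4_of_sheet`, `row4_of_equiv`.
-/

set_option autoImplicit false
set_option linter.style.haveILetI false

namespace Cfsg.Agent.OddHalf.NI3.Ex4

open Subgroup Cfsg
open Cfsg.Agent.OddHalf.D8.JTwo.Sheet
open Cfsg.Agent.OddHalf.NI.Ex.Lemma (NoComm)

universe u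

variable {X : Type u} [Group X]

theorem mem_zpowers_two {z : X} (zz : z * z = 1) {x : X} : x ∈ zpowers z ↔ x = 1 ∨ x = z := by
  constructor
  · rintro ⟨k, rfl⟩
    change z ^ k = 1 ∨ z ^ k = z
    rcases Int.even_or_odd' k with ⟨m, rfl | rfl⟩
    · left
      rw [zpow_mul, zpow_two, zz, one_zpow]
    · right
      rw [zpow_add, zpow_mul, zpow_two, zz, one_zpow, one_mul, zpow_one]
  · rintro (rfl | rfl)
    · exact one_mem _
    · exact mem_zpowers _

/-- `O₂(C(z)) = R` -/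
theorem OO2_eq [Finite X] {z : X} {R : Subgroup X} (h : SheetX z (centralizer ({z} : Set X)) R) : OO2 z = R := by
  haveI : Fact (Nat.Prime 2) := ⟨Nat.prime_two⟩
  apply le_antisymm
  · refine h.Rmax _ ?_ (OO2_isPGroup z) ?_
    · intro x hx
      exact mem_centralizer_singleton_iff.2 (OO2_comm hx)
    · intro x hx b hb
      exact OO2_conj hb (mem_centralizer_singleton_iff.1 hx)
  · intro r hr
    have hrc : r ∈ centralizer ({z} : Set X) := h.RP hr
    have hn : (R.subgroupOf (centralizer ({z} : Set X))).Normal := by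
      refine ⟨fun n hn g => ?_⟩
      exact h.Rn g g.2 n hn
    have h2 : IsPGroup 2 ↥(R.subgroupOf (centralizer ({z} : Set X))) :=
      h.R2.comap_of_injective _ (Subgroup.subtype_injective _)
    have h3 : R.subgroupOf (centralizer ({z} : Set X)) ≤ pCore 2 ↥(centralizer ({z} : Set X)) :=
      Lib.Cores.le_pCore hn h2
    exact ⟨⟨r, hrc⟩, h3 hr, rfl⟩

/-- the center of `R` -/
theorem sheet_cent {z : X} {P R : Subgroup X} (h : SheetX z P R) {b : X} (hb : b ∈ R) (hc : ∀ r ∈ R, b * r = r * b) :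
    b = 1 ∨ b = z := by
  rcases h.Rmin (R ⊓ centralizer (R : Set X)) inf_le_left (by
    rintro x hx b ⟨hb1, hb2⟩
    refine ⟨h.Rn x hx b hb1, ?_⟩
    have hb2 := mem_centralizer_iff.1 hb2
    refine mem_centralizer_iff.2 fun r hr => ?_
    have h1 := h.Rn x⁻¹ (P.inv_mem hx) r hr
    have h2 := hb2 _ h1
    calc r * (x * b * x⁻¹) = x * ((x⁻¹ * r * x⁻¹⁻¹) * b) * x⁻¹ := by group
      _ = x * (b * (x⁻¹ * r * x⁻¹⁻¹)) * x⁻¹ := by rw [h2]
      _ = x * b * x⁻¹ * r := by group) with h1 | h1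
  · exact h1 b ⟨hb, mem_centralizer_iff.2 fun r hr => (hc r hr).symm⟩
  · exfalso
    obtain ⟨a, ha, b, hb, hab⟩ := h.Rna
    rw [← h1] at ha
    exact hab ((mem_centralizer_iff.1 ha.2 b hb).symm)

/-- the squares of `R` -/
theorem sheet_sq [Finite X] {z : X} {P R : Subgroup X} (h : SheetX z P R) {x : X} (hx : x ∈ R) :
    x * x = 1 ∨ x * x = z := by
  have hzc : ∀ r ∈ R, r * z = z * r := fun r hr => h.cen r (h.RP hr)
  have hcl : ∀ a b : X, (a = 1 ∨ a = z) → (b = 1 ∨ b = z) → (a * b = 1 ∨ a * b = z) := by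
    rintro a b (rfl | rfl) (rfl | rfl)
    · left; rw [one_mul]
    · right; rw [one_mul]
    · right; rw [mul_one]
    · left; exact h.zz
  have hinv : ∀ a : X, (a = 1 ∨ a = z) → (a⁻¹ = 1 ∨ a⁻¹ = z) := by
    rintro a (rfl | rfl)
    · left; rw [inv_one]
    · right; exact inv_eq_of_mul_eq_one_right h.zz
  have hcen : ∀ a r : X, (a = 1 ∨ a = z) → r ∈ R → r * a = a * r := by
    rintro a r (rfl | rfl) hr
    · rw [one_mul, mul_one]
    · exact hzc r hr
  have hcomm : ∀ a ∈ R, ∀ b ∈ R, a * b * a⁻¹ * b⁻¹ = 1 ∨ a * b * a⁻¹ * b⁻¹ = z := fun a ha b hb =>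
    CaseM.X.comm_R h _ (commutator_mem_commutator ha hb)
  let B : Subgroup X :=
    { carrier := {x | x ∈ R ∧ (x * x = 1 ∨ x * x = z)}
      mul_mem' := by
        rintro a b ⟨ha, ha2⟩ ⟨hb, hb2⟩
        refine ⟨R.mul_mem ha hb, ?_⟩
        have h1 := hcomm a⁻¹ (R.inv_mem ha) b hb
        have h2 : a * b * (a * b) = (a * a) * ((a⁻¹ * b * a⁻¹⁻¹ * b⁻¹) * (b * b)) := by group
        rw [h2]
        exact hcl _ _ ha2 (hcl _ _ h1 hb2)
      one_mem' := ⟨R.one_mem, Or.inl (one_mul _)⟩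
      inv_mem' := by
        rintro a ⟨ha, ha2⟩
        refine ⟨R.inv_mem ha, ?_⟩
        rw [← mul_inv_rev]
        exact hinv _ ha2 }
  have hB : ∀ x, x ∈ B ↔ x ∈ R ∧ (x * x = 1 ∨ x * x = z) := fun x => Iff.rfl
  rcases h.Rmin B (fun x hx => ((hB x).1 hx).1) (by
    intro x hx b hb
    rw [hB] at hb ⊢
    refine ⟨h.Rn x hx b hb.1, ?_⟩
    have h1 : x * b * x⁻¹ * (x * b * x⁻¹) = x * (b * b) * x⁻¹ := by group
    rw [h1]
    rcases hb.2 with h2 | h2
    · left; rw [h2]; group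
    · right; rw [h2, h.cen x hx, mul_inv_cancel_right]) with h1 | h1
  · exfalso
    -- every element of `R` lies in `⟨z⟩`
    have h2 : ∀ r ∈ R, r = 1 ∨ r = z := by
      intro r hr
      obtain ⟨k, hk⟩ := h.R2 ⟨r, hr⟩
      have hk' : r ^ 2 ^ k = 1 := congrArg Subtype.val hk
      have h3 : ∀ k : ℕ, ∀ r ∈ R, r ^ 2 ^ k = 1 → r = 1 ∨ r = z := by
        intro k
        induction k with
        | zero =>
          intro r _ h4
          left
          rwa [pow_zero, pow_one] at h4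
        | succ k ih =>
          intro r hr h4
          have h5 := ih (r * r) (R.mul_mem hr hr) (by
            rw [← pow_two, ← pow_mul, mul_comm, ← pow_succ]; exact h4)
          exact h1 r ((hB r).2 ⟨hr, h5⟩)
      exact h3 k r hr hk'
    obtain ⟨a, ha, b, hb, hab⟩ := h.Rna
    exact hab (hcen b a (h2 b hb) ha)
  · rw [← h1] at hx
    exact ((hB x).1 hx).2

theorem large4_of_sheet [Finite X] {z : X} {R : Subgroup X} (h : SheetX z (centralizer ({z} : Set X)) R) :
    Large4 z (zpowers z) where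
  zz := h.zz
  z1 := h.z1
  syl := by
    obtain ⟨S, -, hS, -⟩ := h.syl
    exact ⟨S, hS⟩
  con := by
    intro g hg hc
    rw [OO2_eq h] at hc ⊢
    exact h.cR g (mem_centralizer_singleton_iff.2 hg) hc
  mem := mem_zpowers z
  le := by
    rw [zpowers_le, OO2_eq h]
    exact h.zR
  ex := by
    intro x hx
    rcases (mem_zpowers_two h.zz).1 hx with rfl | rfl
    · exact one_mul _
    · exact h.zz
  cen := by
    intro x hx g hg
    rcases (mem_zpowers_two h.zz).1 hx with rfl | rfl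
    · rw [one_mul, mul_one]
    · exact hg
  sq := by
    intro x hx
    rw [OO2_eq h] at hx
    exact (mem_zpowers_two h.zz).2 (sheet_sq h hx)
  nc := by
    intro x hx hx1
    rcases (mem_zpowers_two h.zz).1 hx with rfl | rfl
    · exact absurd rfl hx1
    · exact NI.Ex.Lemma.Good.noComm (NI.Ex.good_of_sheet h)
  fix := by
    intro β _ hβ x hx
    rcases (mem_zpowers_two h.zz).1 hx with rfl | rfl
    · exact map_one _
    · exact hβ
  four := by
    intro B hB hc h4
    exfalso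
    rw [OO2_eq h] at hB hc
    have h5 : (B : Set X) ⊆ {1, z} := by
      intro b hb
      exact sheet_cent h (hB hb) (hc b hb)
    have h6 : (B : Set X).ncard ≤ ({1, z} : Set X).ncard := Set.ncard_le_ncard h5 (Set.toFinite _)
    have h7 : ({1, z} : Set X).ncard ≤ 2 := Set.ncard_insert_le _ _ |>.trans (by simp)
    have h8 : (B : Set X).ncard = 4 := by
      change Nat.card B = 4
      exact h4
    omega

/-- the center of a simple group with two elements which do not commute -/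
theorem center_bot [hs : IsSimpleGroup X] {a b : X} (h : a * b ≠ b * a) : center X = ⊥ := by
  rcases (inferInstance : (center X).Normal).eq_bot_or_eq_top with h1 | h1
  · exact h1
  · exact absurd ((mem_center_iff.1 (h1 ▸ mem_top b : b ∈ center X)) a) h

theorem row4_of_sheet [Finite X] [IsSimpleGroup X] {z : X} {R : Subgroup X}
    (h : SheetX z (centralizer ({z} : Set X)) R) : Row4 X := by
  obtain ⟨a, _, b, _, hab⟩ := h.Rna
  exact row4_of_large (center_bot hab) (large4_of_sheet h)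

/-- the row from a sheet of a model -/
theorem row4_of_sheetE {Y : Type*} [Group Y] [Finite X] [IsSimpleGroup X] (e : Y ≃* X) {z : Y} {R : Subgroup Y}
    (h : D8.Sheet.SheetE z (centralizer ({z} : Set Y)) R) : Row4 X := by
  refine row4_of_sheet (z := e z) (R := R.map e.toMonoidHom) ?_
  rw [D8.SheetMap.centralizer_map e z]
  exact of_sheetE (D8.SheetMap.sheetE_map e h)

end Cfsg.Agent.OddHalf.NI3.Ex4

end

-- merged: Cfsg.Agent.OddHalf.NI3.Ex4.RowB
section

/-!
# (EX4): the row of the Baby Monster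
-/

set_option autoImplicit false

namespace Cfsg.Agent.OddHalf.NI3.Ex4

open Cfsg

universe u

theorem row_b (X : Type u) [Group X] [Finite X] [IsSimpleGroup X] (h : Spor.IsoB X) : Row4 X := by
  obtain ⟨e⟩ := Cfsg.Agent.KFacts.Baby.Sheet.exists_iso_of_isoB h
  exact row4_of_sheetE e (Cfsg.Agent.KFacts.Baby.Row.sheet_model D8.RowB.inner)

end Cfsg.Agent.OddHalf.NI3.Ex4

end

-- merged: Cfsg.Agent.OddHalf.NI3.Ex4.RowCo1
section

/-!
# (EX4): the row of the first Conway group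
-/

set_option autoImplicit false

namespace Cfsg.Agent.OddHalf.NI3.Ex4

open Cfsg

universe u

theorem row_co1 (X : Type u) [Group X] [Finite X] [IsSimpleGroup X] (h : Spor.IsoCo1 X) : Row4 X := by
  obtain ⟨e⟩ := h
  obtain ⟨o, ho⟩ := Cfsg.Agent.CoOneType.ClosingCo1.exists_octad
  exact row4_of_sheetE e.symm (Cfsg.Agent.KFacts.Co1.CaseM.sheetE ho)

end Cfsg.Agent.OddHalf.NI3.Ex4

end

-- merged: Cfsg.Agent.OddHalf.NI3.Ex4.RowJ2
section

/-!
# (EX4): the row of the Hall-Janko group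
-/

set_option autoImplicit false

namespace Cfsg.Agent.OddHalf.NI3.Ex4

open Cfsg

universe u

theorem row_j2 (X : Type u) [Group X] [Finite X] [IsSimpleGroup X] (h : Spor.IsoJ2 X) : Row4 X := by
  obtain ⟨t, u, Q, v, ρ, D⟩ := Cfsg.Agent.KFacts.J2.Facts.exists_dat_of h
  exact row4_of_sheet (Cfsg.Agent.KFacts.J2.SheetX.sheetX D)

end Cfsg.Agent.OddHalf.NI3.Ex4

end

-- merged: Cfsg.Agent.OddHalf.NI3.Ex4.RowM22
section

/-!
# (EX4), row `M22` (helper941)
-/

set_option autoImplicit false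

namespace Cfsg.Agent.OddHalf.NI3.Ex4

open Subgroup Cfsg

universe u

/-- (EX4) for `M22`, in the strong form -/
theorem ex4_m22 {X : Type u} [Group X] (h : Spor.IsoM22 X) : EX4 X ∧ center X = ⊥ := by
  obtain ⟨e⟩ := h
  have hZ : center Spor.M22 = ⊥ := by
    rw [eq_bot_iff]
    intro c hc
    have h1 : (c : Equiv.Perm GolayPt) = 1 := by
      apply J4Type.Aut22.eq_one_of_centralizes (J4Type.Aut22.M22_le_D22 c.2)
      intro m
      have h2 := congrArg Subtype.val (mem_center_iff.1 hc m)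
      have h3 : (m : Equiv.Perm GolayPt) * c = c * m := h2
      rw [← h3]
      group
    exact mem_bot.2 (Subtype.ext h1)
  haveI : Finite X := Finite.of_equiv _ e.symm.toEquiv
  have hX := center_eq_bot_of_equiv e hZ
  exact ⟨ex4_of_twoTri hX (ExTri.twoTri_of_iso e.symm ExM22.twoTri), hX⟩

/-- **(EX4), row `M22`** -/
theorem row_m22 {X : Type u} [Group X] (h : Spor.IsoM22 X) : Row4 X := (ex4_m22 h).1.row4 (ex4_m22 h).2

end Cfsg.Agent.OddHalf.NI3.Ex4

end

-- merged: Cfsg.Agent.OddHalf.NI3.Ex4.RowRu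
section

/-!
# (EX4): the row `Ru`

`bad`: no `ExFour.Bad` configuration in the Rudvalis group: `α`, `β` are inner (by `u`, `v`), `v` of order three in
`C(u)`, so `u` is of class 2A, and `[O₂(C(u)), v]` is not elementary abelian.
-/

set_option autoImplicit false

namespace Cfsg.Agent.OddHalf.NI3.Ex4.RowRu

open Subgroup Cfsg Cfsg.Agent.OddHalf.NI3 Cfsg.Agent.SporadicB

universe u

variable {X : Type u} [Group X]

theorem center_of (e : X ≃* RuOrder.H) : center X = ⊥ := by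
  rw [eq_bot_iff]
  intro c hc
  rw [mem_bot]
  apply e.injective
  rw [map_one]
  have h1 : e c ∈ center RuOrder.H := mem_center_iff.2 fun y => by
    have h2 := congrArg e (mem_center_iff.1 hc (e.symm y))
    rw [map_mul, map_mul, e.apply_symm_apply] at h2
    exact h2
  rwa [Cfsg.Agent.RuLat.center_H, mem_bot] at h1

/-- **no bad configuration** -/
theorem bad [Finite X] (e : X ≃* RuOrder.H) : ExFour.EX4 X := by
  intro α β A h
  have hZ := center_of e
  have hinj := ExFour.conj_inj hZ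
  obtain ⟨u, hu'⟩ := NI.Ex.RowRu.exists_inner e α
  obtain ⟨v, hv'⟩ := NI.Ex.RowRu.exists_inner e β
  have hu : α = MulAut.conj u := by ext x; rw [hu', MulAut.conj_apply]
  have hv : β = MulAut.conj v := by ext x; rw [hv', MulAut.conj_apply]
  have huu : u * u = 1 := by
    apply hinj
    rw [map_mul, map_one, ← hu]; exact h.sq
  have hu1 : u ≠ 1 := by
    rintro rfl
    exact h.ne (by rw [hu, map_one])
  have hv3 : v * v * v = 1 := by
    apply hinj
    rw [map_mul, map_mul, map_one, ← hv]; exact h.cube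
  have hv1 : v ≠ 1 := by
    rintro rfl
    exact h.beta_ne (by rw [hv, map_one])
  have huv : v * u = u * v := by
    apply hinj
    rw [map_mul, map_mul, ← hv, ← hu]; exact h.comm.symm
  have evu : e v * e u = e u * e v := by rw [← map_mul, huv, map_mul]
  have ev3 : e v * e v * e v = 1 := by rw [← map_mul, ← map_mul, hv3, map_one]
  have ev1 : e v ≠ 1 := fun h => hv1 (e.injective (by rw [h, map_one]))
  rcases Bad.ExRuK.main (z := e u) (by rw [← map_mul, huu, map_one])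
    (fun h => hu1 (e.injective (by rw [h, map_one]))) with ⟨B, hB⟩ | h'
  · obtain ⟨y, hy, hne⟩ := hB.three (e v) evu ev3 ev1
    apply hne
    let Q : Subgroup X := B.comap e.toMonoidHom
    have hQm : ∀ q, q ∈ Q ↔ e q ∈ B := fun q => Iff.rfl
    have hQ2 : IsPGroup 2 Q := hB.two.comap_of_injective _ e.injective
    have hyQ : (e.symm y)⁻¹ ∈ Q := by rw [hQm, map_inv, e.apply_symm_apply]; exact inv_mem hy
    have h1 : (e.symm y)⁻¹⁻¹ * β (e.symm y)⁻¹ ∈ A := by
      refine h.mem_of_two hZ hQ2 ?_ ?_ hyQ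
      · intro q hq
        rw [hu', mul_inv_eq_iff_eq_mul]
        apply e.injective
        rw [map_mul, map_mul]
        exact (hB.comm _ hq).symm
      · intro q hq
        rw [hQm, hv', map_mul, map_mul, map_inv]
        exact hB.nor _ evu _ hq
    have h2 := h.inv _ h1
    have h3 := congrArg e h2
    rw [inv_inv, hv', map_mul, map_mul, map_mul, map_mul, map_inv, map_inv, e.apply_symm_apply, map_one] at h3
    calc y * e v * y⁻¹ * (e v)⁻¹ * (y * e v * y⁻¹ * (e v)⁻¹)
        = y * (e v * y⁻¹ * (e v)⁻¹) * (y * (e v * y⁻¹ * (e v)⁻¹)) := by group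
      _ = 1 := h3
  · exact ev1 (h' (e v) evu ev3)

theorem ex4 [Finite X] (e : X ≃* RuOrder.H) : EX4 X := by
  intro α β A h1 h2 h3 h4 h5 h6 h7 h8 h9 h10 _
  refine bad e α β A ⟨h1, h2, h3, h4, h5, h7, h6, h8, ?_, ?_⟩
  · have h11 : 1 < Nat.card A := by omega
    have : Nontrivial A := Finite.one_lt_card_iff_nontrivial.1 h11
    obtain ⟨a, ha⟩ := exists_ne (1 : A)
    exact ⟨a, a.2, fun h => ha (Subtype.ext (h9 a a.2 h))⟩
  · exact h10

theorem row4 [Finite X] (e : X ≃* RuOrder.H) : Row4 X := (ex4 e).row4 (center_of e)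

/-- **row `Ru`** -/
theorem ru [Finite X] (h : Spor.IsoRu X) : Row4 X := by
  obtain ⟨e⟩ := h
  exact row4 (e.trans Cfsg.Agent.RuLat.Main.equiv)

end Cfsg.Agent.OddHalf.NI3.Ex4.RowRu

end

-- merged: Cfsg.Agent.OddHalf.NI3.Ex4.RowSuz
section

/-!
# (EX4): the row of the Suzuki group
-/

set_option autoImplicit false

namespace Cfsg.Agent.OddHalf.NI3.Ex4

open Cfsg

universe u

theorem row_suz (X : Type u) [Group X] [Finite X] [IsSimpleGroup X] (h : Spor.IsoSuz X) : Row4 X := by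
  obtain ⟨e⟩ := h
  exact row4_of_sheetE e.symm Cfsg.Agent.KFacts.SuzSheetE.sheetE

end Cfsg.Agent.OddHalf.NI3.Ex4

end

-- merged: Cfsg.Agent.OddHalf.NI3.Ex4.RowTE62
section

/-!
# (EX4): the row `²E₆(2)`
-/

set_option autoImplicit false

namespace Cfsg.Agent.OddHalf.NI3.Ex4

open Cfsg Cfsg.Agent.OddHalf.D9.Cut

universe u

theorem row_te62 (X : Type u) [Group X] [Finite X] [IsSimpleGroup X] (h : X2E62 X) : Row4 X := by
  obtain ⟨F, _, _, hF, ⟨e⟩⟩ := h
  obtain ⟨-, φ, F'⟩ := Cfsg.Agent.TwoESix.LeviA.exists_four F hF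
  exact row4_of_sheetE e.symm (Cfsg.Agent.TwoESix.SheetMain.sheet F')

end Cfsg.Agent.OddHalf.NI3.Ex4

end

-- merged: Cfsg.Agent.OddHalf.NI3.Ex4.RowTwo
section

/-!
# (EX4), rows `L₃(4)` and `Sz(q)` (helper146)

`Cfg4.false_of_two` : `C(w)` is a 2-group and the involutions of its centre are squares.
-/

set_option autoImplicit false
set_option linter.style.haveILetI false

namespace Cfsg.Agent.OddHalf.NI3.Ex4

open Subgroup Cfsg

universe u

section Lem

variable {X : Type u} [Group X] {w : X} {β : MulAut X} {A : Subgroup X}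

theorem Cfg4.false_of_two [Finite X] (C : Cfg4 w β A) (hZ : center X = ⊥)
    (h2 : IsPGroup 2 ↥(centralizer ({w} : Set X)))
    (hsq : ∀ a : X, a * a = 1 → (∀ s, s * w = w * s → s * a = a * s) → ∃ x, x * w = w * x ∧ x * x = a) :
    False := by
  have key : ∀ s, s * w = w * s → β s * s⁻¹ ∈ A := by
    intro s hs
    refine C.two hZ h2 (fun b hb => mem_centralizer_singleton_iff.1 hb) ?_ C.bC s
      (mem_centralizer_singleton_iff.2 hs)
    intro a ha b hb
    have h3 : a ∈ centralizer ({w} : Set X) := mem_centralizer_singleton_iff.2 (C.Aw a ha)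
    exact mul_mem (mul_mem h3 hb) (inv_mem h3)
  have hww := C.ww
  -- every element of `A` is a commutator with `β`
  have hA : ∀ a ∈ A, β (β a) * (β a)⁻¹ = a := by
    intro a ha
    have h1 := C.prod ha
    have h2 := C.A2 _ (C.bA a ha)
    have h3 : (β a)⁻¹ = β a := inv_eq_of_mul_eq_one_left h2
    have h4 : β (β a) * β a = β a * β (β a) := C.comm (C.bA _ (C.bA a ha)) (C.bA a ha)
    rw [h3, h4]
    have h5 : a * (β a * β (β a)) = 1 := by rw [← mul_assoc]; exact h1
    exact mul_left_cancel (h5.trans (C.A2 a ha).symm)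
  -- the fixed elements of `C(w)` normalise and centralise `A`
  have hn : ∀ c, c * w = w * c → β c = c → ∀ a ∈ A, c * a * c⁻¹ ∈ A := by
    intro c hc hβ a ha
    have h1 : c * β a * c⁻¹ * w = w * (c * β a * c⁻¹) := by
      have e1 := C.Aw _ (C.bA a ha)
      have e2 : c⁻¹ * w = w * c⁻¹ := by
        rw [inv_mul_eq_iff_eq_mul, ← mul_assoc, hc, mul_inv_cancel_right]
      calc c * β a * c⁻¹ * w = c * β a * (c⁻¹ * w) := by group
        _ = c * (β a * w) * c⁻¹ := by rw [e2]; group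
        _ = (c * w) * β a * c⁻¹ := by rw [e1]; group
        _ = w * (c * β a * c⁻¹) := by rw [hc]; group
    have h3 := key _ h1
    have e : β (c * β a * c⁻¹) * (c * β a * c⁻¹)⁻¹ = c * (β (β a) * (β a)⁻¹) * c⁻¹ := by
      rw [map_mul, map_mul, map_inv, hβ]; group
    rwa [e, hA a ha] at h3
  have hcen : ∀ c, c * w = w * c → β c = c → ∀ a ∈ A, c * a = a * c := by
    intro c hc hβ a ha
    by_cases ha1 : a = 1
    · rw [ha1, mul_one, one_mul]
    have hb1 : β a ≠ 1 := fun h => ha1 (β.injective (by rw [h, map_one]))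
    have hne : a ≠ β a := fun h => ha1 (C.bne a ha h.symm)
    have hpr : a * β a ≠ 1 := by
      intro h
      apply hne
      have h5 : a * a = a * β a := by rw [C.A2 a ha, h]
      exact mul_left_cancel h5
    -- `c³` commutes with `a`
    have hc3 : (c * c * c) * a = a * (c * c * c) := by
      have hstep : ∀ x ∈ A, c * β x * c⁻¹ = β (c * x * c⁻¹) := by
        intro x _
        rw [map_mul, map_mul, map_inv, hβ]
      rcases four_cases C.A4 ha (C.bA a ha) ha1 hb1 hne hpr _ (hn c hc hβ a ha) with h | h | h | h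
      · exfalso
        apply ha1
        have h5 : a = c⁻¹ * (c * a * c⁻¹) * c := by group
        rw [h5, h]; group
      · have h5 : Commute c a := mul_inv_eq_iff_eq_mul.1 h
        exact (h5.mul_left h5).mul_left h5
      · have e1 : c * β a * c⁻¹ = β (β a) := by rw [hstep a ha, h]
        have e2 : c * β (β a) * c⁻¹ = a := by rw [hstep _ (C.bA a ha), e1, C.beta3]
        calc c * c * c * a = c * c * (c * a * c⁻¹) * c := by group
          _ = c * (c * β a * c⁻¹) * c * c := by rw [h]; group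
          _ = (c * β (β a) * c⁻¹) * c * c * c := by rw [e1]; group
          _ = a * (c * c * c) := by rw [e2]; group
      · have h6 : a * β a = β (β a) := by
          have h7 := C.prod ha
          have h8 := C.A2 _ (C.bA _ (C.bA a ha))
          exact mul_right_cancel (h7.trans h8.symm)
        rw [h6] at h
        have e1 : c * β (β a) * c⁻¹ = β a := by
          rw [hstep _ (C.bA a ha), hstep a ha, h, C.beta3]
        have e2 : c * β a * c⁻¹ = a := by rw [hstep a ha, h, C.beta3]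
        calc c * c * c * a = c * c * (c * a * c⁻¹) * c := by group
          _ = c * (c * β (β a) * c⁻¹) * c * c := by rw [h]; group
          _ = (c * β a * c⁻¹) * c * c * c := by rw [e1]; group
          _ = a * (c * c * c) := by rw [e2]; group
    obtain ⟨n, hcn⟩ := h2 ⟨c, mem_centralizer_singleton_iff.2 hc⟩
    have hcn' : c ^ 2 ^ n = 1 := by simpa using congrArg Subtype.val hcn
    -- `c` is a power of `c³`
    have hpow : ∃ k : ℕ, c = (c * c * c) ^ k := by
      have hcop : Nat.Coprime 3 (2 ^ n) := Nat.Coprime.pow_right n (by norm_num)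
      rcases Nat.eq_zero_or_pos n with h0 | h0
      · subst h0
        rw [pow_zero, pow_one] at hcn'
        exact ⟨0, by rw [hcn', pow_zero]⟩
      obtain ⟨k, hk⟩ := Nat.exists_mul_mod_eq_one_of_coprime hcop (by
        calc 1 < 2 ^ 1 := by norm_num
          _ ≤ 2 ^ n := Nat.pow_le_pow_right (by norm_num) h0)
      refine ⟨k, ?_⟩
      have e3 : c * c * c = c ^ 3 := by rw [pow_succ, pow_two]
      rw [e3, ← pow_mul]
      have h5 : 3 * k = 2 ^ n * (3 * k / 2 ^ n) + 1 := by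
        have := Nat.div_add_mod (3 * k) (2 ^ n)
        rw [hk.2] at this
        exact this.symm
      rw [h5, pow_add, pow_mul, hcn', one_pow, one_mul, pow_one]
    obtain ⟨k, hk⟩ := hpow
    have h5 : Commute (c * c * c) a := hc3
    rw [hk]
    exact h5.pow_left k
  -- `A` is central in `C(w)`
  have hcA : ∀ s, s * w = w * s → ∀ a ∈ A, s * a = a * s := by
    intro s hs a ha
    set d := β s * s⁻¹ with hd
    have hdA : d ∈ A := key s hs
    have h1 : β s = d * s := by rw [hd]; group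
    set c := (β d)⁻¹ * s with hc
    have hcw : c * w = w * c := by
      have e1 := C.Aw _ (C.bA d hdA)
      have e2 : (β d)⁻¹ * w = w * (β d)⁻¹ := by
        rw [inv_mul_eq_iff_eq_mul, ← mul_assoc, e1, mul_inv_cancel_right]
      calc c * w = (β d)⁻¹ * (s * w) := by rw [hc]; group
        _ = ((β d)⁻¹ * w) * s := by rw [hs]; group
        _ = w * c := by rw [e2, hc]; group
    have hcβ : β c = c := by
      rw [hc, map_mul, map_inv, h1]
      have e3 := hA d hdA
      have e4 : (β d)⁻¹ = (β (β d))⁻¹ * d := by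
        rw [eq_inv_mul_iff_mul_eq]; exact e3
      rw [e4]; group
    have h3 := hcen c hcw hcβ a ha
    have h4 : s = β d * c := by rw [hc]; group
    rw [h4]
    calc β d * c * a = β d * (c * a) := by group
      _ = (β d * a) * c := by rw [h3]; group
      _ = a * (β d * c) := by rw [C.comm (C.bA d hdA) ha]; group
  -- the elements of `A` are squares
  have hfix : ∀ a ∈ A, a = 1 := by
    intro a ha
    obtain ⟨x, hx, hxx⟩ := hsq a (C.A2 a ha) (fun s hs => hcA s hs a ha)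
    have h1 := key x hx
    set d := β x * x⁻¹ with hd
    have h3 : β x = d * x := by rw [hd]; group
    apply C.bne a ha
    rw [← hxx, map_mul, h3]
    have h4 := hcA x hx d h1
    calc d * x * (d * x) = d * (x * d) * x := by group
      _ = (d * d) * (x * x) := by rw [h4]; group
      _ = x * x := by rw [C.A2 d h1, one_mul]
  have h3 : A = ⊥ := by
    rw [eq_bot_iff]
    intro a ha
    rw [mem_bot]
    exact hfix a ha
  have h4 := C.A4
  rw [h3, card_bot] at h4
  omega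

/-- **The row from the centralizers of the involutions.** -/
theorem row4_of_pgroup_two [Finite X] (hZ : center X = ⊥)
    (h : ∀ w : X, w * w = 1 → w ≠ 1 → IsPGroup 2 ↥(centralizer ({w} : Set X)) ∧
      ∀ a : X, a * a = 1 → (∀ s, s * w = w * s → s * a = a * s) → ∃ x, x * w = w * x ∧ x * x = a) :
    Row4 X := by
  intro w β A C N _ _ f _ _ _ _ a b l _ _ _ _ _ _ _
  obtain ⟨h1, h2⟩ := h w C.ww C.w1
  exact C.false_of_two hZ h1 h2

end Lem

/-! ### `L₃(4)` -/

section L34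

open Cfsg.Agent.LThreeFour Cfsg.Agent.SporadicA.FieldFour

theorem code_four : ∀ a b c, cmul (cmul ⟨a, b, c⟩ ⟨a, b, c⟩) (cmul ⟨a, b, c⟩ ⟨a, b, c⟩) = cone := by
  decide +kernel

theorem code_cen : ∀ a b c, cmul ⟨a, b, c⟩ ⟨1, 0, 0⟩ = cmul ⟨1, 0, 0⟩ ⟨a, b, c⟩ →
    cmul ⟨a, b, c⟩ ⟨0, 1, 0⟩ = cmul ⟨0, 1, 0⟩ ⟨a, b, c⟩ → a = 0 ∧ b = 0 := by
  decide +kernel

theorem code_sq : ∀ c : F4, cmul ⟨c, 1, 0⟩ ⟨c, 1, 0⟩ = ⟨0, 0, c⟩ := by
  decide +kernel

theorem code_z : ∀ a b c, cmul ⟨a, b, c⟩ ⟨0, 0, 1⟩ = cmul ⟨0, 0, 1⟩ ⟨a, b, c⟩ := by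
  decide +kernel

/-- **(EX4), row `L₃(4)`** -/
theorem row_l34 {X : Type u} [Group X] (h : D9.Cut.XL34 X) : Row4 X := by
  obtain ⟨F, _, _, hF, ⟨e⟩⟩ := h
  obtain ⟨D⟩ := exists_dat hF e
  haveI : Finite X := Nat.finite_of_card_ne_zero (by rw [D.card]; norm_num)
  have hz : ∀ p : Code, D.el p * D.x 0 2 1 = D.x 0 2 1 * D.el p := by
    rintro ⟨a, b, c⟩
    rw [← D.el_x02, D.el_mul, D.el_mul, code_z]
  have hZ : center X = ⊥ := by
    rw [eq_bot_iff]
    intro x hx
    rw [mem_bot]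
    apply D.conj_eq_one
    ext y
    rw [MulAut.conj_apply, MulAut.one_apply, mul_inv_eq_iff_eq_mul]
    exact ((mem_center_iff.1 hx) y).symm
  refine row4_of_pgroup_two hZ ?_
  intro w ww w1
  obtain ⟨g, hg⟩ := D.invol_conj w w1 ww
  have hw : ∀ s, s * w = w * s → ∃ p, g * s * g⁻¹ = D.el p := by
    intro s hs
    obtain ⟨p, hp⟩ := D.cent (g * s * g⁻¹) (by
      rw [← hg]
      calc g * s * g⁻¹ * (g * w * g⁻¹) = g * (s * w) * g⁻¹ := by group
        _ = g * w * g⁻¹ * (g * s * g⁻¹) := by rw [hs]; group)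
    exact ⟨p, hp⟩
  have hw' : ∀ p, (g⁻¹ * D.el p * g) * w = w * (g⁻¹ * D.el p * g) := by
    intro p
    have h1 := hz p
    rw [← hg] at h1
    calc g⁻¹ * D.el p * g * w = g⁻¹ * (D.el p * (g * w * g⁻¹)) * g := by group
      _ = w * (g⁻¹ * D.el p * g) := by rw [h1]; group
  refine ⟨?_, ?_⟩
  · rintro ⟨s, hs⟩
    rw [mem_centralizer_singleton_iff] at hs
    obtain ⟨⟨a, b, c⟩, hp⟩ := hw s hs
    refine ⟨2, Subtype.ext ?_⟩
    change s ^ 2 ^ 2 = 1
    have h1 : (g * s * g⁻¹) * (g * s * g⁻¹) * ((g * s * g⁻¹) * (g * s * g⁻¹)) = 1 := by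
      rw [hp, D.el_mul, D.el_mul, code_four, D.el_one]
    have h2 : g * (s ^ 2 ^ 2) * g⁻¹ = 1 := by
      rw [← h1]
      have e : s ^ 2 ^ 2 = s * s * (s * s) := by
        rw [show (2 : ℕ) ^ 2 = 2 + 2 by norm_num, pow_add, pow_two]
      rw [e]; group
    have h3 : s ^ 2 ^ 2 = g⁻¹ * (g * (s ^ 2 ^ 2) * g⁻¹) * g := by group
    rw [h3, h2]; group
  · intro a aa ha
    obtain ⟨⟨p, q, r⟩, hp⟩ := hw a (ha w rfl).symm
    have h1 : ∀ c : Code, D.el ⟨p, q, r⟩ * D.el c = D.el c * D.el ⟨p, q, r⟩ := by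
      intro c
      rw [← hp]
      have h2 := ha _ (hw' c)
      calc g * a * g⁻¹ * D.el c = g * (a * (g⁻¹ * D.el c * g)) * g⁻¹ := by group
        _ = D.el c * (g * a * g⁻¹) := by rw [← h2]; group
    have h2 := h1 ⟨1, 0, 0⟩
    have h3 := h1 ⟨0, 1, 0⟩
    rw [D.el_mul, D.el_mul] at h2 h3
    obtain ⟨rfl, rfl⟩ := code_cen p q r (D.inj h2) (D.inj h3)
    refine ⟨g⁻¹ * D.el ⟨r, 1, 0⟩ * g, hw' _, ?_⟩
    have h4 : D.el ⟨r, 1, 0⟩ * D.el ⟨r, 1, 0⟩ = g * a * g⁻¹ := by
      rw [D.el_mul, code_sq, hp]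
    calc g⁻¹ * D.el ⟨r, 1, 0⟩ * g * (g⁻¹ * D.el ⟨r, 1, 0⟩ * g)
        = g⁻¹ * (D.el ⟨r, 1, 0⟩ * D.el ⟨r, 1, 0⟩) * g := by group
      _ = a := by rw [h4]; group

end L34

/-! ### `Sz(q)` -/

section Sz

open Cfsg.Agent.OddHalf.D4.Sz Cfsg.Agent.OddHalf.D4.Basic

/-- **(EX4), row `Sz(q)`** -/
theorem row_sz {X : Type u} [Group X] (h : D9.Cut.XSz X) : Row4 X := by
  obtain ⟨F, _, _, m, hm, hF, ⟨e⟩⟩ := h
  haveI : Finite X := Finite.of_equiv _ e.symm.toEquiv
  haveI : Fact (Nat.Prime 2) := ⟨Nat.prime_two⟩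
  have e' : ↥(⊤ : Subgroup X) ≃* ↥(Cfsg.Lie.Sz F (2 ^ (m + 1))) := topEquiv.trans e
  have hZ : center X = ⊥ := by
    obtain ⟨T, hT, -⟩ := exists_isSyl (G := X) (M := ⊤) (Q := ⊥) IsPGroup.of_bot bot_le
    obtain ⟨p, hh, V⟩ := KD.exists_kd hm hF e' hT
    rw [eq_bot_iff]
    intro x hx
    rw [mem_bot]
    refine V.cen x (mem_top x) ?_
    rw [mem_centralizer_iff]
    intro y _
    exact (mem_center_iff.1 hx) y
  refine row4_of_pgroup_two hZ ?_
  intro w ww w1
  have hw2 : IsPGroup 2 ↥(zpowers w) := by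
    rintro ⟨x, k, rfl⟩
    refine ⟨1, Subtype.ext ?_⟩
    change (w ^ k) ^ (2 ^ 1) = 1
    rw [pow_one, ← zpow_natCast, ← zpow_mul, mul_comm, zpow_mul, zpow_natCast, pow_two, ww, one_zpow]
  obtain ⟨T, hT, hwT⟩ := exists_isSyl (G := X) (M := ⊤) (Q := zpowers w) hw2 le_top
  obtain ⟨p, hh, V⟩ := KD.exists_kd hm hF e' hT
  have hwT' : w ∈ T := hwT (mem_zpowers w)
  have hcT : ∀ s, s * w = w * s → s ∈ T := fun s hs => V.cent s (mem_top s) w hwT' w1 hs
  obtain ⟨b, rfl⟩ := V.eq_of_sq hwT' ww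
  refine ⟨?_, ?_⟩
  · refine V.syl.two.to_le ?_
    intro s hs
    exact hcT s (mem_centralizer_singleton_iff.1 hs)
  · intro a aa ha
    obtain ⟨c, rfl⟩ := V.eq_of_sq (hcT a (ha _ rfl).symm) aa
    refine ⟨p (c ^ (2 ^ (m + 1) - 1)) 0, V.z_comm _ _ _, ?_⟩
    rw [V.p_sq]
    congr 1
    by_cases hc : c = 0
    · rw [hc, ← pow_mul]
      apply zero_pow
      have h1 : 2 ≤ 2 ^ (m + 1) := by
        calc 2 = 2 ^ 1 := by norm_num
          _ ≤ 2 ^ (m + 1) := Nat.pow_le_pow_right (by norm_num) (by omega)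
      have h2 : 0 < 2 ^ (m + 1) - 1 := by omega
      positivity
    · have h1 := V.th_th c
      have h2 : 1 ≤ 2 ^ (m + 1) := Nat.one_le_two_pow
      apply mul_right_cancel₀ hc
      rw [← pow_mul, ← pow_succ]
      have h3 : (2 ^ (m + 1) - 1) * (1 + 2 ^ (m + 1)) + 1 = 2 ^ (m + 1) * 2 ^ (m + 1) := by
        obtain ⟨k, hk⟩ := Nat.exists_eq_add_of_le h2
        rw [hk, Nat.add_sub_cancel_left]
        ring
      rw [h3, pow_mul, h1, pow_two]

end Sz

end Cfsg.Agent.OddHalf.NI3.Ex4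

end

-- merged: Cfsg.Agent.OddHalf.NI3.Ex4.RowFi22
section

/-!
# (EX4), row `Fi22` (helper967; bb ODD #15341, #18008)

`ζ = z = d d'`, `P = R = O₂(C(d, d'))`, `Z₁ = ⟨z⟩`; `β` fixes `z`, hence `d` and `d'`, and `A = [A, β] ≤ C(d, d')`.
-/

set_option autoImplicit false
set_option linter.style.haveILetI false

namespace Cfsg.Agent.OddHalf.NI3.Ex4

open Subgroup Cfsg Cfsg.Agent.KFacts.FiTT Cfsg.Agent.OddHalf.D8.Fi22 Cfsg.Agent.R01
open Cfsg.Agent.OddHalf.NI.Ex.Lemma (NoComm)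
open Cfsg.Agent.OddHalf.NI.Ex (RowFi22.good)

universe u

open scoped Pointwise in
/-- a conjugate of the 2-central involution `ζ` commutes with `w` and `A` -/
theorem Cfg4.exists_conj {X : Type u} [Group X] [Finite X] {w ζ : X} {β : MulAut X} {A : Subgroup X}
    (C : Cfg4 w β A) (hS : ∃ S : Sylow 2 X, ∀ x ∈ S, x * ζ = ζ * x) :
    ∃ g : X, w * (g * ζ * g⁻¹) = (g * ζ * g⁻¹) * w ∧ ∀ a ∈ A, a * (g * ζ * g⁻¹) = (g * ζ * g⁻¹) * a := by
  haveI : Fact (Nat.Prime 2) := ⟨Nat.prime_two⟩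
  obtain ⟨S, hS⟩ := hS
  have hle : zpowers w ≤ normalizer (A : Set X) := by
    rw [zpowers_le]
    refine normalizer_of_forall fun a ha => ?_
    rw [← C.Aw a ha, mul_inv_cancel_right]
    exact ha
  have hA2 : IsPGroup 2 ↥A := IsPGroup.of_card (n := 2) (by rw [C.A4]; norm_num)
  have hw2 : IsPGroup 2 ↥(zpowers w) := by
    rintro ⟨x, k, rfl⟩
    refine ⟨1, Subtype.ext ?_⟩
    change (w ^ k) ^ (2 ^ 1) = 1
    rw [pow_one, ← zpow_natCast, ← zpow_mul, mul_comm, zpow_mul, zpow_natCast, pow_two, C.ww, one_zpow]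
  have hAw : IsPGroup 2 ↥(A ⊔ zpowers w) := hA2.to_sup_of_normal_left' hw2 hle
  obtain ⟨T, hT⟩ := hAw.exists_le_sylow
  obtain ⟨g, hg⟩ := MulAction.exists_smul_eq X S T
  have hζ : ∀ x ∈ T, x * (g * ζ * g⁻¹) = (g * ζ * g⁻¹) * x := by
    intro x hx
    rw [← hg] at hx
    have hx' : g⁻¹ * x * g ∈ S := by
      have h1 := Subgroup.mem_smul_pointwise_iff_exists x (MulAut.conj g) (S : Subgroup X)
      have h2 : x ∈ MulAut.conj g • (S : Subgroup X) := hx
      obtain ⟨s, hs, h3⟩ := h1.1 h2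
      rw [MulAut.smul_def, MulAut.conj_apply] at h3
      rw [← h3]
      have h4 : g⁻¹ * (g * s * g⁻¹) * g = s := by group
      rw [h4]; exact hs
    have h1 := hS _ hx'
    calc x * (g * ζ * g⁻¹) = g * ((g⁻¹ * x * g) * ζ) * g⁻¹ := by group
      _ = g * (ζ * (g⁻¹ * x * g)) * g⁻¹ := by rw [h1]
      _ = (g * ζ * g⁻¹) * x := by group
  exact ⟨g, hζ w (hT (mem_sup_right (mem_zpowers w))), fun a ha => hζ a (hT (mem_sup_left ha))⟩

section

variable {X : Type u} [Group X] {T : Set X} {d d' : X} {R : Subgroup X}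

theorem fi_largeP [Finite X] (F : Facts X d d' R) (k : KTrans X T) (hd : d ∈ T) (hd' : d' ∈ T) :
    LargeP (d * d') (zpowers (d * d')) R where
  zz := Sheet22.zz F
  z1 := Sheet22.z_ne F
  P2 := F.R_two
  Pc := fun x hx => Sheet22.z_comm (F.R_le hx)
  Pn := fun x hx h hh => F.R_normal h hh x hx
  le := by
    rw [zpowers_le]
    exact mul_mem F.d_mem F.d'_mem
  ex := by
    intro x hx
    rcases (mem_zpowers_two (Sheet22.zz F)).1 hx with rfl | rfl
    · exact one_mul _
    · exact Sheet22.zz F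
  cen := by
    intro x hx h hh
    rcases (mem_zpowers_two (Sheet22.zz F)).1 hx with rfl | rfl
    · rw [one_mul, mul_one]
    · exact hh
  sq := fun x hx => (mem_zpowers_two (Sheet22.zz F)).2 (F.R_sq x hx)
  nc := by
    intro x hx hx1
    rcases (mem_zpowers_two (Sheet22.zz F)).1 hx with rfl | rfl
    · exact absurd rfl hx1
    · exact NI.Ex.Lemma.Good.noComm (RowFi22.good F k hd hd')
  four := by
    intro B _ hc h4
    have h5 : ∀ b ∈ B, b = 1 ∨ b = d ∨ b = d' ∨ b = d * d' := fun b hb => F.R_center b (hc b hb)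
    by_contra hcon
    have hz : d * d' ∉ B := fun h => hcon ⟨_, h, Sheet22.z_ne F, mem_zpowers _⟩
    have h6 : (B : Set X) ⊆ {1, d, d'} := by
      intro b hb
      rcases h5 b hb with h | h | h | h
      · rw [h]; simp
      · rw [h]; simp
      · rw [h]; simp
      · exact absurd (h ▸ hb) hz
    have h7 : (B : Set X).ncard ≤ ({1, d, d'} : Set X).ncard := Set.ncard_le_ncard h6 (Set.toFinite _)
    have h8 : ({1, d, d'} : Set X).ncard ≤ 3 := by
      calc ({1, d, d'} : Set X).ncard ≤ ({d, d'} : Set X).ncard + 1 := Set.ncard_insert_le _ _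
        _ ≤ (({d'} : Set X).ncard + 1) + 1 := Nat.add_le_add_right (Set.ncard_insert_le _ _) 1
        _ = 3 := by rw [Set.ncard_singleton]
    have h9 : (B : Set X).ncard = 4 := by
      change Nat.card B = 4
      exact h4
    omega

/-- `R ≤ O₂(C(z))` -/
theorem fi_R_le [Finite X] (F : Facts X d d' R) : R ≤ OO2 (d * d') := by
  haveI : Fact (Nat.Prime 2) := ⟨Nat.prime_two⟩
  intro r hr
  have hle : R ≤ centralizer ({d * d'} : Set X) := fun x hx =>
    mem_centralizer_singleton_iff.2 (Sheet22.z_comm (F.R_le hx))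
  have hn : (R.subgroupOf (centralizer ({d * d'} : Set X))).Normal := by
    refine ⟨fun n hn g => ?_⟩
    exact F.R_normal g (mem_centralizer_singleton_iff.1 g.2) n hn
  have h2 : IsPGroup 2 ↥(R.subgroupOf (centralizer ({d * d'} : Set X))) :=
    F.R_two.comap_of_injective _ (Subgroup.subtype_injective _)
  have h3 : R.subgroupOf (centralizer ({d * d'} : Set X)) ≤ pCore 2 ↥(centralizer ({d * d'} : Set X)) :=
    Lib.Cores.le_pCore hn h2
  exact ⟨⟨r, hle hr⟩, h3 hr, rfl⟩

/-- `O₂(C(z)) ⊓ C(d, d') ≤ R` -/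
theorem fi_le_R [Finite X] (F : Facts X d d' R) {x : X} (hx : x ∈ OO2 (d * d'))
    (hx' : x ∈ centralizer ({d, d'} : Set X)) : x ∈ R := by
  have h1 : OO2 (d * d') ⊓ centralizer ({d, d'} : Set X) ≤ R := by
    refine F.O2 _ inf_le_right ?_ ((OO2_isPGroup (d * d')).to_le inf_le_left)
    rintro g g1 g2 y ⟨hy, hy'⟩
    have hg : g ∈ centralizer ({d, d'} : Set X) := Sheet22.mem_P.2 ⟨g1, g2⟩
    have hy2 : y ∈ centralizer ({d, d'} : Set X) := hy'
    have h3 : g * y * g⁻¹ ∈ centralizer ({d, d'} : Set X) := mul_mem (mul_mem hg hy2) (inv_mem hg)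
    exact ⟨OO2_conj hy (Sheet22.z_comm hg), h3⟩
  exact h1 ⟨hx, hx'⟩

theorem fi_fix (F : Facts X d d' R) (k : KTrans X T) (hd : d ∈ T) (hd' : d' ∈ T) {β : MulAut X}
    (b3 : β * β * β = 1) (hβ : β (d * d') = d * d') : β d = d ∧ β d' = d' := by
  have h1 : β d * β d' = d * d' := by rw [← map_mul, hβ]
  have h2 : β d * β d' = β d' * β d := by rw [← map_mul, F.comm, map_mul]
  have key : β d = d → β d' = d' := by
    intro h
    rw [h] at h1
    exact mul_left_cancel h1
  rcases k.uniq d hd d' hd' (β d) (k.aut β d hd) (β d') (k.aut β d' hd') F.ne F.comm h2 h1.symm with h | h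
  · exact ⟨h, key h⟩
  · exfalso
    have h3 : β d' = d := by
      rw [h] at h1
      have h4 : d' * (β d') = d' * d := by rw [h1, F.comm]
      exact mul_left_cancel h4
    have h4 : β (β (β d)) = d := by
      rw [← MulAut.mul_apply, ← MulAut.mul_apply, b3, MulAut.one_apply]
    rw [h, h3, h] at h4
    exact F.ne h4.symm

end

/-- **row `Fi22` of (EX4)** -/
theorem row_fi22 (X : Type u) [Group X] [Finite X] [IsSimpleGroup X] (hX : Spor.IsoFi22 X) : Row4 X := by
  obtain ⟨e⟩ := hX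
  have k := kTrans e
  obtain ⟨d0, hd0, d0', hd0', hne, hcm⟩ := k.pair
  obtain ⟨R0, A0⟩ := all_of_iso e hd0 hd0' hne hcm
  obtain ⟨S, -, hS, -⟩ := A0.basic.syl
  have hZ : center X = ⊥ := by
    obtain ⟨x, _, y, _, h⟩ := A0.facts.R_nonab
    refine center_bot (a := x) (b := y) fun h1 => ?_
    rw [h1] at h
    apply Sheet22.z_ne A0.facts
    rw [← h]; group
  intro w β A C N _ _ f hf hker hker2 hN a b l ha hb hl hal hbl hk ho
  have hab : a * b ≠ b * a := by
    intro h1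
    have h2 : a * b * a⁻¹ * b⁻¹ = 1 := by rw [h1]; group
    rw [h2, orderOf_one] at ho
    omega
  obtain ⟨g, hw, hA⟩ := C.exists_conj ⟨S, hS⟩
  have hd := k.conj g d0 hd0
  have hd' := k.conj g d0' hd0'
  have eg : g * (d0 * d0') * g⁻¹ = (g * d0 * g⁻¹) * (g * d0' * g⁻¹) := by group
  rw [eg] at hw hA
  have hne' : g * d0 * g⁻¹ ≠ g * d0' * g⁻¹ := by
    intro h
    apply hne
    have h1 : g⁻¹ * (g * d0 * g⁻¹) * g = g⁻¹ * (g * d0' * g⁻¹) * g := by rw [h]
    have e1 : g⁻¹ * (g * d0 * g⁻¹) * g = d0 := by group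
    have e2 : g⁻¹ * (g * d0' * g⁻¹) * g = d0' := by group
    rwa [e1, e2] at h1
  have hcm' : (g * d0 * g⁻¹) * (g * d0' * g⁻¹) = (g * d0' * g⁻¹) * (g * d0 * g⁻¹) := by
    calc (g * d0 * g⁻¹) * (g * d0' * g⁻¹) = g * (d0 * d0') * g⁻¹ := by group
      _ = g * (d0' * d0) * g⁻¹ := by rw [hcm]
      _ = (g * d0' * g⁻¹) * (g * d0 * g⁻¹) := by group
  obtain ⟨R, Al⟩ := all_of_iso e hd hd' hne' hcm'
  have F := Al.facts
  generalize g * d0 * g⁻¹ = d at *
  generalize g * d0' * g⁻¹ = d' at *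
  have L := fi_largeP F k hd hd'
  have hβ : β (d * d') = d * d' :=
    C.beta_eq hZ (L.nc _ (mem_zpowers _) L.z1) L.zz hw hA hf hker hker2 hN ha hb hal hbl hab
  obtain ⟨b1, b2⟩ := fi_fix F k hd hd' C.b3 hβ
  have hβC : ∀ x ∈ centralizer ({d, d'} : Set X), β x ∈ centralizer ({d, d'} : Set X) := by
    intro x hx
    obtain ⟨h1, h2⟩ := Sheet22.mem_P.1 hx
    refine Sheet22.mem_P.2 ⟨?_, ?_⟩
    · have h3 := congrArg β h1
      rwa [map_mul, map_mul, b1] at h3
    · have h3 := congrArg β h2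
      rwa [map_mul, map_mul, b2] at h3
  have hAO : A ≤ OO2 (d * d') := by
    refine C.le_OO2 hZ ?_ hβ hw hA
    intro h _ hc
    apply fi_R_le F
    rcases F.R_center h (fun y hy => hc y (fi_R_le F hy)) with rfl | rfl | rfl | rfl
    · exact one_mem _
    · exact F.d_mem
    · exact F.d'_mem
    · exact mul_mem F.d_mem F.d'_mem
  have hAR : A ≤ R := by
    intro a ha
    have hx := C.bA a ha
    have hy := C.bA _ hx
    have e1 : a = β (β a) * (β a)⁻¹ := by
      have h1 := C.prod ha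
      have h2 : (β a)⁻¹ = β a := inv_eq_of_mul_eq_one_right (C.A2 _ hx)
      have h3 : a⁻¹ = a := inv_eq_of_mul_eq_one_right (C.A2 _ ha)
      rw [h2, C.comm hy hx]
      rw [mul_assoc] at h1
      rw [← inv_eq_of_mul_eq_one_right h1, h3]
    rw [e1]
    refine fi_le_R F (mul_mem (hAO hy) (inv_mem (hAO hx))) ?_
    rcases F.cz (β a) (OO2_comm (hAO hx)) with ⟨h1, h2⟩ | ⟨h1, h2⟩
    · have h3 : β a ∈ centralizer ({d, d'} : Set X) := Sheet22.mem_P.2 ⟨h1, h2⟩
      exact mul_mem (hβC _ h3) (inv_mem h3)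
    · have h3 := congrArg β h1
      have h4 := congrArg β h2
      rw [map_mul, map_mul, map_inv, b1, b2] at h3 h4
      refine Sheet22.mem_P.2 ⟨?_, ?_⟩
      · rw [← mul_inv_eq_iff_eq_mul]
        calc β (β a) * (β a)⁻¹ * d * (β (β a) * (β a)⁻¹)⁻¹
            = β (β a) * ((β a)⁻¹ * d * β a) * (β (β a))⁻¹ := by group
          _ = β (β a) * ((β a)⁻¹ * (β a * d' * (β a)⁻¹) * β a) * (β (β a))⁻¹ := by rw [h2]
          _ = β (β a) * d' * (β (β a))⁻¹ := by group
          _ = d := h4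
      · rw [← mul_inv_eq_iff_eq_mul]
        calc β (β a) * (β a)⁻¹ * d' * (β (β a) * (β a)⁻¹)⁻¹
            = β (β a) * ((β a)⁻¹ * d' * β a) * (β (β a))⁻¹ := by group
          _ = β (β a) * ((β a)⁻¹ * (β a * d * (β a)⁻¹) * β a) * (β (β a))⁻¹ := by rw [h1]
          _ = β (β a) * d * (β (β a))⁻¹ := by group
          _ = d' := h3
  have hβR : ∀ x ∈ R, β x ∈ R := by
    intro x hx
    exact fi_le_R F (beta_OO2 hβ (fi_R_le F hx)) (hβC x (F.R_le hx))
  refine false_of_largeP hZ L C hw hA hAR hβR ?_ hf hker hker2 hN ha hb hl hal hbl hab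
  intro x hx
  rcases (mem_zpowers_two L.zz).1 hx with rfl | rfl
  · exact map_one _
  · exact hβ

end Cfsg.Agent.OddHalf.NI3.Ex4

end

-- merged: Cfsg.Agent.OddHalf.NI3.Ex4.RowG24
section

/-!
# (EX4): the row `G₂(4)` (helper831)

`ζ` a long root element: `C(ζ) = 2^{2+8} : A₅`, `O₂(C(ζ)) = Q₁` of order `2¹⁰`, `Z₁ = Z(Q₁)` of order four.
-/

set_option autoImplicit false
set_option linter.style.haveILetI false

namespace Cfsg.Agent.OddHalf.NI3.Ex4

open Subgroup Cfsg
open Cfsg.Agent.OddHalf.NI.Ex (Good hasGood_L good_long exists_long cent_eq_P finite_L' card_L')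
open Cfsg.Agent.GTwoFour Cfsg.Agent.GTwoFour.Mdl
open Cfsg.Agent.StdG24.Mod6

universe u

/-- a Sylow 2-subgroup contained in a subgroup of odd index -/
theorem exists_syl_of_odd {K : Type*} [Group K] [Finite K] (C : Subgroup K) (hodd : Odd C.index) :
    ∃ T : Sylow 2 K, (T : Subgroup K) ≤ C := by
  haveI : Fact (Nat.Prime 2) := ⟨Nat.prime_two⟩
  obtain ⟨P⟩ : Nonempty (Sylow 2 C) := inferInstance
  have h1 : IsPGroup 2 ((P : Subgroup C).map C.subtype) := P.2.map _
  obtain ⟨T, hT⟩ := h1.exists_le_sylow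
  have hcard : Nat.card (T : Subgroup K) ≤ Nat.card ((P : Subgroup C).map C.subtype) := by
    rw [Nat.card_congr ((P : Subgroup C).equivMapOfInjective C.subtype C.subtype_injective).toEquiv.symm,
      T.card_eq_multiplicity, P.card_eq_multiplicity]
    have h2 : Nat.card K = Nat.card C * C.index := (Subgroup.card_mul_index C).symm
    have h3 : (Nat.card K).factorization 2 = (Nat.card C).factorization 2 := by
      rw [h2, Nat.factorization_mul (Nat.card_pos.ne') (Subgroup.index_ne_zero_of_finite)]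
      simp only [Finsupp.coe_add, Pi.add_apply]
      rw [Nat.factorization_eq_zero_of_not_dvd (n := C.index), add_zero]
      rw [← even_iff_two_dvd, Nat.not_even_iff_odd]
      exact hodd
    rw [h3]
  have heq : (P : Subgroup C).map C.subtype = (T : Subgroup K) := eq_of_le_of_card_ge hT hcard
  refine ⟨T, ?_⟩
  rw [← heq]
  exact Subgroup.map_subtype_le _

section L

theorem mem_cent {z : L} (hz : z ∈ DL.Z) (h1 : z ≠ 1) {x : L} : x * z = z * x ↔ x ∈ DL.P := by
  rw [← mem_centralizer_singleton_iff, cent_eq_P hz h1]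

theorem OO2_L {z : L} (hz : z ∈ DL.Z) (h1 : z ≠ 1) : OO2 z = DL.Q1 := by
  haveI : Finite L := finite_L'
  haveI : Fact (Nat.Prime 2) := ⟨Nat.prime_two⟩
  apply le_antisymm
  · refine factsL.core_P _ ?_ ?_ (OO2_isPGroup z)
    · intro x hx
      exact (mem_cent hz h1).1 (OO2_comm hx)
    · intro p hp x hx
      exact OO2_conj hx ((mem_cent hz h1).2 hp)
  · have hle : DL.Q1 ≤ centralizer ({z} : Set L) := by
      rw [cent_eq_P hz h1]; exact factsL.Q1_le
    have hQ : IsPGroup 2 ↥DL.Q1 := IsPGroup.of_card (n := 10) (by rw [factsL.card_Q1]; norm_num)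
    intro r hr
    have hn : (DL.Q1.subgroupOf (centralizer ({z} : Set L))).Normal := by
      refine ⟨fun n hn g => ?_⟩
      have hg : (g : L) ∈ DL.P := by
        rw [← cent_eq_P hz h1]; exact g.2
      exact factsL.norm_Q1 g hg n hn
    have h2 : IsPGroup 2 ↥(DL.Q1.subgroupOf (centralizer ({z} : Set L))) :=
      hQ.comap_of_injective _ (Subgroup.subtype_injective _)
    have h3 : DL.Q1.subgroupOf (centralizer ({z} : Set L)) ≤ pCore 2 ↥(centralizer ({z} : Set L)) :=
      Lib.Cores.le_pCore hn h2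
    exact ⟨⟨r, hle hr⟩, h3 hr, rfl⟩

/-- the center of `Q₁` -/
theorem mem_Z_iff {x : L} : x ∈ DL.Z ↔ x ∈ DL.Q1 ∧ ∀ q ∈ DL.Q1, x * q = q * x := by
  constructor
  · intro hx
    refine ⟨factsL.Z_le hx, fun q hq => ?_⟩
    have h1 := factsL.Q1_le hq
    exact (((factsL.cent_Z q (factsL.P_le h1)).2 h1) x hx).symm
  · rintro ⟨h1, h2⟩
    exact factsL.center_Q1 x h1 h2

theorem preG_L {z : L} (hz : z ∈ DL.Z) (h1 : z ≠ 1) : PreG z DL.Z := by
  haveI : Finite L := finite_L'
  haveI : Fact (Nat.Prime 2) := ⟨Nat.prime_two⟩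
  refine
    { zz := factsL.sq_Z z hz
      z1 := h1
      syl := ?_
      con := ?_
      mem := hz
      le := by rw [OO2_L hz h1]; exact factsL.Z_le
      ex := factsL.sq_Z
      cen := ?_
      sq := by rw [OO2_L hz h1]; exact factsL.sq_Q1
      gd := fun x hx hx1 => good_long hx hx1
      fix := ?_ }
  · -- a Sylow 2-subgroup of odd index
    have h3 := (centralizer ({z} : Set L)).card_mul_index
    have h4 : Nat.card (centralizer ({z} : Set L)) = 61440 := by
      rw [cent_eq_P hz h1]; exact factsL.card_P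
    rw [h4, card_L'] at h3
    have h5 : (centralizer ({z} : Set L)).index = 4095 := by omega
    obtain ⟨S, hS⟩ := exists_syl_of_odd (centralizer ({z} : Set L)) (by rw [h5]; decide)
    exact ⟨S, fun x hx => mem_centralizer_singleton_iff.1 (hS hx)⟩
  · intro h hh hc
    rw [OO2_L hz h1] at hc ⊢
    refine factsL.cent_Q1Z h ((mem_cent hz h1).1 hh) fun q hq => ?_
    rw [commutatorElement_def, hc q hq, mul_inv_cancel_right, mul_inv_cancel]
    exact one_mem _
  · intro x hx h hh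
    have h3 := (mem_cent hz h1).1 hh
    exact ((factsL.cent_Z h (factsL.P_le h3)).2 h3) x hx
  · -- an automorphism of order three which fixes `z` is trivial on `Z`
    intro β b3 hβ
    have hb : ∀ x ∈ DL.Z, β x ∈ DL.Z := by
      intro x hx
      rw [mem_Z_iff] at hx ⊢
      rw [← OO2_L hz h1] at hx ⊢
      refine ⟨beta_OO2 hβ hx.1, fun q hq => ?_⟩
      have hβ' : β.symm z = z := by rw [MulEquiv.symm_apply_eq]; exact hβ.symm
      have hq' : β.symm q ∈ OO2 z := beta_OO2 (β := β.symm) hβ' hq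
      have h3 := hx.2 _ hq'
      have h4 := congrArg β h3
      rwa [map_mul, map_mul, MulEquiv.apply_symm_apply] at h4
    intro x hx
    by_contra hne
    have hx1 : x ≠ 1 := by rintro rfl; exact hne (map_one β)
    have hxz : x ≠ z := by rintro rfl; exact hne hβ
    have hxzx : x * z ≠ 1 := by
      intro h3
      apply hxz
      have h4 := factsL.sq_Z x hx
      exact (mul_left_cancel (h4.trans h3.symm)).symm ▸ rfl
    have h3 : ∀ c ∈ DL.Z, c = 1 ∨ c = x ∨ c = z ∨ c = x * z :=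
      four_cases factsL.card_Z hx hz hx1 h1 hxz hxzx
    -- `β x = x z`
    have h4 : β x = x * z := by
      rcases h3 _ (hb x hx) with e | e | e | e
      · exact absurd (β.injective (by rw [e, map_one])) hx1
      · exact absurd e hne
      · exact absurd (β.injective (by rw [e, hβ])) hxz
      · exact e
    have h5 : β (β (β x)) = x * z := by
      rw [h4, map_mul, h4, hβ, mul_assoc, factsL.sq_Z z hz, mul_one, h4]
    have h6 : β (β (β x)) = x := by
      have := DFunLike.congr_fun b3 x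
      rwa [MulAut.mul_apply, MulAut.mul_apply, MulAut.one_apply] at this
    rw [h6] at h5
    exact h1 (mul_eq_left.1 h5.symm)

end L

theorem row_g24 (X : Type u) [Group X] [Finite X] [IsSimpleGroup X] (h : D9.Cut.XG24 X) : Row4 X := by
  haveI : Finite L := finite_L'
  obtain ⟨F, i1, i2, hF, ⟨e⟩⟩ := h
  obtain ⟨e'⟩ := Cfsg.Agent.StdG24.Iso6.equiv_chev F hF
  have f : L ≃* X := e'.trans e.symm
  obtain ⟨z, hz, h1⟩ := exists_long
  have hP := ((preG_L hz h1).map f).pre4
  have hOO : ∀ x : L, f x ∈ OO2 (f z) ↔ x ∈ DL.Q1 := fun x => by rw [OO2_map_iff, OO2_L hz h1]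
  -- a noncommuting pair
  have hnc : ∃ a b : L, a * b ≠ b * a := by
    by_contra hcon
    push Not at hcon
    have h3 : centralizer ({z} : Set L) = ⊤ := by
      rw [eq_top_iff]
      intro x _
      exact mem_centralizer_singleton_iff.2 (hcon x z)
    rw [cent_eq_P hz h1] at h3
    have h4 := factsL.card_P
    rw [h3, Subgroup.card_top, card_L'] at h4
    omega
  obtain ⟨a, b, hab⟩ := hnc
  refine row4_of_large (ζ := f z) (Z₁ := DL.Z.map (f : L →* X))
    (center_bot (a := f a) (b := f b) fun h3 => hab (f.injective (by rw [map_mul, map_mul, h3]))) ?_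
  refine ⟨hP.zz, hP.z1, hP.syl, hP.con, hP.mem, hP.le, hP.ex, hP.cen, hP.sq, hP.nc, hP.fix, ?_⟩
  intro B hB hc h4
  have h5 : ∃ b ∈ B, b ≠ 1 := by
    by_contra hcon
    push Not at hcon
    have h6 : B = ⊥ := (Subgroup.eq_bot_iff_forall _).2 hcon
    rw [h6, Subgroup.card_bot] at h4
    omega
  obtain ⟨b, hb, hb1⟩ := h5
  refine ⟨b, hb, hb1, ?_⟩
  obtain ⟨x, rfl⟩ := f.surjective b
  refine ⟨x, mem_Z_iff.2 ⟨(hOO x).1 (hB hb), fun q hq => ?_⟩, rfl⟩
  exact f.injective (by rw [map_mul, map_mul]; exact hc _ hb _ ((hOO q).2 hq))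

end Cfsg.Agent.OddHalf.NI3.Ex4

end

-- merged: Cfsg.Agent.OddHalf.NI3.Ex4.RowHS
section

/-!
# (EX4), row `HS`

`z` of class 2A, `R = O₂(C(z)) = 4 ∘ 2^(1+4)`: `Large4 z ⟨z⟩` (the elements of `C(z)` which centralise `R` are `1`, `z`,
`u`, `u⁻¹` with `u² = z`, so `z` is in every subgroup of order 4 of `Z(R)`).
-/

set_option autoImplicit false
set_option linter.style.haveILetI false

namespace Cfsg.Agent.OddHalf.NI3.Ex4.RowHS

open Subgroup Cfsg
open Cfsg.Agent.HN Cfsg.Agent.HN.Pres Cfsg.Agent.HN.HS100 Cfsg.Agent.HN.P1408 Cfsg.Agent.HN.H0Basic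
open Cfsg.Agent.HN.XMat Cfsg.Agent.HN.WMask Cfsg.Agent.KFacts.HS Cfsg.Agent.KFacts.HS.Cent

universe u

variable {L : Type u} [Group L] (D : Cfsg.Agent.KFacts.HS.Mod L)

theorem sgL (e : Bool) : D.π ⟨sg e, sg_mem_K e⟩ = 1 ∨ D.π ⟨sg e, sg_mem_K e⟩ = D.z := by
  cases e
  · exact Or.inl (D.π_one _)
  · exact Or.inr rfl

/-- the squares of `R` -/
theorem sqR {x : L} (hx : x ∈ D.R) : x * x = 1 ∨ x * x = D.z := by
  obtain ⟨g, hg, hgR, rfl⟩ := D.mem_im.1 hx
  obtain ⟨m, _, _, e, he⟩ := mem_Rt.1 hgR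
  obtain ⟨e', he'⟩ := R_sq m
  have h1 : g * g = sg e' := by
    calc g * g = R m * (sg e * R m) * sg e := by rw [he]; group
      _ = (R m * R m) * (sg e * sg e) := by rw [R_sg]; group
      _ = sg e' := by
        rw [he', sg_mul, sg_mul]
        cases e' <;> cases e <;> rfl
  have h2 : D.π ⟨g, hg⟩ * D.π ⟨g, hg⟩ = D.π ⟨sg e', sg_mem_K e'⟩ := by
    rw [D.π_mul]
    exact D.π_congr _ h1
  rw [h2]
  exact sgL D e'

theorem OO2_eq : OO2 D.z = D.R := by
  haveI := D.finite
  haveI : Fact (Nat.Prime 2) := ⟨Nat.prime_two⟩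
  apply le_antisymm
  · refine D.core _ (fun x hx => mem_centralizer_singleton_iff.2 (OO2_comm hx)) (OO2_isPGroup D.z) ?_
    intro x hx c hc
    exact OO2_conj hc (D.Pcomm hx)
  · intro r hr
    have hrc : r ∈ centralizer ({D.z} : Set L) := D.P_le (D.RP hr)
    have hn : (D.R.subgroupOf (centralizer ({D.z} : Set L))).Normal := by
      refine ⟨fun n hn g => ?_⟩
      exact D.Rn' (mem_centralizer_singleton_iff.1 g.2) hn
    have h2 : IsPGroup 2 ↥(D.R.subgroupOf (centralizer ({D.z} : Set L))) :=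
      D.isPGroup_R.comap_of_injective _ (Subgroup.subtype_injective _)
    have h3 : D.R.subgroupOf (centralizer ({D.z} : Set L)) ≤ pCore 2 ↥(centralizer ({D.z} : Set L)) :=
      Lib.Cores.le_pCore hn h2
    exact ⟨⟨r, hrc⟩, h3 hr, rfl⟩

/-- **`Large4`** -/
theorem large4 : Large4 D.z (zpowers D.z) := by
  haveI := D.finite
  have hO := OO2_eq D
  have hmem : ∀ x : L, x ∈ zpowers D.z ↔ x = 1 ∨ x = D.z := fun x => mem_zpowers_two D.zz
  exact
  { zz := D.zz
    z1 := D.z1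
    syl := by
      obtain ⟨S, _, zc, _⟩ := D.syl
      exact ⟨S, zc⟩
    con := by
      intro h hh hc
      rw [hO] at hc ⊢
      rcases D.cR' h hh hc with h1 | h1 | h1 | h1
      · rw [h1]; exact one_mem _
      · rw [h1]; exact D.zR
      · rw [h1]; exact D.uR
      · rw [h1]; exact inv_mem D.uR
    mem := mem_zpowers _
    le := by
      rw [hO, zpowers_le]; exact D.zR
    ex := by
      intro x hx
      rcases (hmem x).1 hx with h | h
      · rw [h, one_mul]
      · rw [h]; exact D.zz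
    cen := by
      intro x hx h hh
      rcases (hmem x).1 hx with h1 | h1
      · rw [h1, one_mul, mul_one]
      · rw [h1]; exact hh
    sq := by
      intro x hx
      rw [hO] at hx
      exact (hmem _).2 (sqR D hx)
    nc := by
      intro x hx h1
      rcases (hmem x).1 hx with h2 | h2
      · exact absurd h2 h1
      · rw [h2]; exact NI.Ex.Lemma.Good.noComm (NI.Ex.RowHS.good D)
    fix := by
      intro β _ hβ x hx
      rcases (hmem x).1 hx with h | h
      · rw [h, map_one]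
      · rw [h]; exact hβ
    four := by
      intro B hB hc h4
      have h5 : ∀ b ∈ B, b = 1 ∨ b = D.z ∨ b = D.u ∨ b = D.u⁻¹ := by
        intro b hb
        refine D.cR' b (OO2_comm (hB hb)) fun r hr => hc b hb r ?_
        rw [hO]; exact hr
      by_contra hcon
      push Not at hcon
      have h6 : D.z ∉ B := fun h => hcon D.z h D.z1 (mem_zpowers _)
      have h7 : ∀ b ∈ B, b = 1 := by
        intro b hb
        rcases h5 b hb with h | h | h | h
        · exact h
        · exact absurd (h ▸ hb) h6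
        · exfalso; apply h6; rw [← D.uu, ← h]; exact mul_mem hb hb
        · exfalso; apply h6
          have h8 : D.u = b⁻¹ := by rw [h, inv_inv]
          rw [← D.uu, h8]; exact mul_mem (inv_mem hb) (inv_mem hb)
      have h8 : B = ⊥ := by
        rw [eq_bot_iff]
        intro b hb
        exact mem_bot.2 (h7 b hb)
      rw [h8, card_bot] at h4
      omega }

/-- **row `HS`** -/
theorem row_hs (X : Type u) [Group X] [Finite X] [IsSimpleGroup X] (h : Spor.IsoHS X) : Row4 X := by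
  obtain ⟨D⟩ := exists_mod h
  obtain ⟨a, b, hab⟩ : ∃ a b : X, a * b ≠ b * a := by
    by_contra hcon
    push Not at hcon
    have h1 : D.P = ⊥ := by
      rw [← D.perf, eq_bot_iff, commutator_le]
      intro x _ y _
      rw [mem_bot, commutatorElement_eq_one_iff_mul_comm]
      exact hcon x y
    have h2 := D.cardP
    rw [h1, card_bot] at h2
    omega
  exact row4_of_large (center_bot hab) (large4 D)

end Cfsg.Agent.OddHalf.NI3.Ex4.RowHS

end

-- merged: Cfsg.Agent.OddHalf.NI3.Ex4.RowSp62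
section

/-!
# (EX4), row `Sp₆(2)` (helper941)
-/

set_option autoImplicit false

namespace Cfsg.Agent.OddHalf.NI3.Ex4

open Subgroup Cfsg Cfsg.Agent.OddHalf.NI3.ExTri Cfsg.Agent.OddHalf.D9.Cut

universe u

/-- the triples and quaternion groups of `Sp₆(2)` -/
theorem twoTriQ_sp62 : TwoTriQ (Matrix.symplecticGroup (Fin 3) (ZMod 2)) := by
  intro w b h1 h2 h3 h4 h5
  exact SpSix.main StandardComponent.SpTwoModel.data StandardComponent.SpTwoModel.card_V h1 h2 h3 h4 h5

/-- **(EX4), row `Sp₆(2)`** -/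
theorem row_sp62 {X : Type u} [Group X] [Finite X] (hs : IsSimpleGroup X) (hna : ¬ IsMulCommutative X)
    (h : XSp62 X) : Row4 X := by
  have hZ := (NI3.Ex.ct_sp62 hs hna h).center
  have hin := NI3.Ex.inner_sp62 hs hna h
  obtain ⟨F, i, j, hF, ⟨e⟩⟩ := h
  obtain ⟨e'⟩ := StandardComponent.SpTwoAut.exists_equiv hF
  exact row4_of_twoTriQ hZ (fun β _ => hin β) (twoTriQ_of_iso (e.trans e').symm twoTriQ_sp62)

end Cfsg.Agent.OddHalf.NI3.Ex4

end

-- merged: Cfsg.Agent.OddHalf.NI3.Ex4.RowU62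
section

/-!
# (EX4): the row `U₆(2)` (helper704)

`z` = a transvection of `PSU_n(2)`, `n ≥ 6`; `O₂(C(z))` = the Siegel group `QQ` (helper604's sheet).
-/

set_option autoImplicit false
set_option linter.style.haveILetI false

namespace Cfsg.Agent.OddHalf.NI3.Ex4

open Subgroup Cfsg Cfsg.Agent.LieClassical.HermBasic Cfsg.Agent.LieClassical.SUBasic
  Cfsg.Agent.ClassicalGeometry.PSUAutBasic Cfsg.Agent.ClassicalGeometry.PSUAutSylow
  Cfsg.Agent.ClassicalGeometry.PSUAutUnip Cfsg.Agent.ClassicalGeometry.PSUAutPhi Cfsg.Agent.KFacts.Unit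
  Cfsg.Agent.KFacts.Unit.SheetTwo

universe u

section

variable {F : Type*} [Field F] [Fintype F] {n : ℕ} [CharP F 2] {e f : Fin n → F}

/-- `O₂(C(z)) = QQ` -/
theorem OO2_zt (hF : Fintype.card F = 2 ^ 2) (hn : 6 ≤ n) (H : IsFrame 2 e f) :
    OO2 (zt hF H.ee) = QQ hF e H.ee := by
  haveI : Fact (Nat.Prime 2) := ⟨Nat.prime_two⟩
  apply le_antisymm
  · refine Rmax hF (by omega) H _ ?_ (OO2_isPGroup _) ?_
    · intro x hx
      obtain ⟨k, hk⟩ := OO2_isPGroup (zt hF H.ee) ⟨x, hx⟩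
      exact mem_PP_of_commute hF (by omega) (frame_ne_zero H) H.ee (zt_mem hF H.ee)
        (zt_ne hF (by omega) (frame_ne_zero H) H.ee) (congrArg Subtype.val hk) (OO2_comm hx)
    · intro x hx b hb
      exact OO2_conj hb (zt_P hF H.ee hx)
  · intro r hr
    have hrc : r ∈ centralizer ({zt hF H.ee} : Set (PSU n F 2)) :=
      mem_centralizer_singleton_iff.2 (zt_P hF H.ee (QQ_le_PP hF H.ee hr))
    have hn' : ((QQ hF e H.ee).subgroupOf (centralizer ({zt hF H.ee} : Set (PSU n F 2)))).Normal := by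
      refine ⟨fun y hy g => ?_⟩
      exact NI.Ex.conj_QQ hF (by omega) H (mem_centralizer_singleton_iff.1 g.2) _ hy
    have h2 : IsPGroup 2 ↥((QQ hF e H.ee).subgroupOf (centralizer ({zt hF H.ee} : Set (PSU n F 2)))) :=
      (R2 hF H.ee).comap_of_injective _ (Subgroup.subtype_injective _)
    have h3 := Lib.Cores.le_pCore hn' h2
    exact ⟨⟨r, hrc⟩, h3 hr, rfl⟩

/-- the squares of `QQ` -/
theorem QQ_sq (hF : Fintype.card F = 2 ^ 2) (H : IsFrame 2 e f) {x : PSU n F 2} (hx : x ∈ QQ hF e H.ee) :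
    x * x = 1 ∨ x * x = zt hF H.ee := by
  obtain ⟨w, μ, h, rfl⟩ := mem_QQ.1 hx
  apply RR_cases hF H.ee
  have h0 : w + w = 0 := by
    funext i
    rw [Pi.add_apply, CharTwo.add_self_eq_zero, Pi.zero_apply]
  have h1 := h.mul hF h
  have h2 := h1.tr
  rw [h0, herm_zero_left, add_zero] at h2
  rw [← map_mul, LieClassical.HermSiegel.siegel_mul, mem_RR]
  refine ⟨_, h2, ?_⟩
  rw [transv]
  congr 1
  exact LieClassical.HermSiegel.siegel_congr hF _ _ rfl h0 rfl

/-- `C(QQ) = ⟨z⟩` -/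
theorem cent_QQ (hF : Fintype.card F = 2 ^ 2) (hn : 6 ≤ n) (H : IsFrame 2 e f) {x : PSU n F 2}
    (hx : ∀ y ∈ QQ hF e H.ee, x * y = y * x) : x ∈ RR hF e H.ee := by
  obtain ⟨r, hr, hxr⟩ := autCent_point hF (by omega) (frame_ne_zero H) H.ee (MulAut.conj x) (fun y hy => by
    rw [MulAut.conj_apply, hx y hy, mul_inv_cancel_right])
  have h1 : x = r := by
    have h2 : r⁻¹ * x ∈ Subgroup.center (PSU n F 2) := by
      rw [Subgroup.mem_center_iff]
      intro y
      have h3 := DFunLike.congr_fun hxr y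
      rw [MulAut.conj_apply, MulAut.conj_apply] at h3
      have h4 : x * y = r * y * r⁻¹ * x := by rw [← h3, inv_mul_cancel_right]
      rw [mul_assoc r⁻¹ x y, h4]
      group
    rw [center_eq_bot' hF hn (frame_ne_zero H) H.ee, Subgroup.mem_bot] at h2
    exact (inv_mul_eq_one.1 h2).symm
  rw [h1]
  exact hr

theorem mem_zpowers_of {Y : Type*} [Group Y] {z : Y} (zz : z * z = 1) {x : Y} :
    x ∈ zpowers z ↔ x = 1 ∨ x = z := by
  constructor
  · rintro ⟨k, rfl⟩
    change z ^ k = 1 ∨ z ^ k = z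
    rcases Int.even_or_odd' k with ⟨m, rfl | rfl⟩
    · left
      rw [zpow_mul, zpow_two, zz, one_zpow]
    · right
      rw [zpow_add, zpow_mul, zpow_two, zz, one_zpow, one_mul, zpow_one]
  · rintro (rfl | rfl)
    · exact one_mem _
    · exact mem_zpowers _

theorem preG_zt (hF : Fintype.card F = 2 ^ 2) (hn : 6 ≤ n) (H : IsFrame 2 e f) :
    PreG (zt hF H.ee) (zpowers (zt hF H.ee)) where
  zz := zt_sq hF H.ee
  z1 := zt_ne hF (by omega) (frame_ne_zero H) H.ee
  syl := by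
    obtain ⟨S, -, hS, -⟩ := syl hF hn (frame_ne_zero H) H.ee
    exact ⟨S, hS⟩
  con := by
    intro g _ hc
    rw [OO2_zt hF hn H] at hc ⊢
    exact RR_le_QQ hF H.ee (cent_QQ hF hn H hc)
  mem := mem_zpowers _
  le := by
    rw [zpowers_le, OO2_zt hF hn H]
    exact RR_le_QQ hF H.ee (zt_mem hF H.ee)
  ex := by
    intro x hx
    rcases (mem_zpowers_of (zt_sq hF H.ee)).1 hx with rfl | rfl
    · exact one_mul _
    · exact zt_sq hF H.ee
  cen := by
    intro x hx g hg
    rcases (mem_zpowers_of (zt_sq hF H.ee)).1 hx with rfl | rfl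
    · rw [one_mul, mul_one]
    · exact hg
  sq := by
    intro x hx
    rw [OO2_zt hF hn H] at hx
    exact (mem_zpowers_of (zt_sq hF H.ee)).2 (QQ_sq hF H hx)
  gd := by
    intro x hx hx1
    rcases (mem_zpowers_of (zt_sq hF H.ee)).1 hx with rfl | rfl
    · exact absurd rfl hx1
    · exact NI.Ex.good_zt hF hn H
  fix := by
    intro β _ hβ x hx
    rcases (mem_zpowers_of (zt_sq hF H.ee)).1 hx with rfl | rfl
    · exact map_one _
    · exact hβ

theorem two4_zt (hF : Fintype.card F = 2 ^ 2) (hn : 6 ≤ n) (H : IsFrame 2 e f) :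
    Two4 (zt hF H.ee) (zt hF H.ee) (zpowers (zt hF H.ee)) (zpowers (zt hF H.ee)) where
  p₁ := preG_zt hF hn H
  p₂ := preG_zt hF hn H
  syl := by
    obtain ⟨S, -, hS, -⟩ := syl hF hn (frame_ne_zero H) H.ee
    exact ⟨S, fun x hx => ⟨hS x hx, hS x hx⟩⟩
  cc := by
    intro g hg _
    rw [OO2_zt hF hn H] at hg
    rcases RR_cases hF H.ee (cent_QQ hF hn H hg) with h | h
    · exact Or.inl h
    · exact Or.inr (Or.inl h)

end

/-- **The row `U₆(2)` of (EX4).** -/
theorem row_u62 (X : Type u) [Group X] [Finite X] [IsSimpleGroup X] (h : D9.Cut.XU62 X) : Row4 X := by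
  obtain ⟨F, i1, i2, hF, ⟨ε⟩⟩ := h
  haveI : CharP F 2 := by
    haveI : Fact (Nat.Prime 2) := ⟨Nat.prime_two⟩
    exact charP_of_card_eq_prime_pow (f := 2) (by rw [hF]; norm_num)
  have hF' : Fintype.card F = 2 ^ 2 := by rw [hF]; norm_num
  obtain ⟨e, f, H⟩ := exists_frame (F := F) (q := 2) (n := 6) hF' (by omega)
  haveI : Finite (PSU 6 F 2) := Finite.of_equiv _ ε.toEquiv
  obtain ⟨a, -, b, -, hab⟩ := Rna hF' (by omega) H
  refine row4_of_zeta ε.symm (center_bot (a := ε.symm a) (b := ε.symm b) ?_) (two4_zt hF' le_rfl H)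
  intro h1
  rw [← map_mul, ← map_mul] at h1
  exact hab (ε.symm.injective h1)

end Cfsg.Agent.OddHalf.NI3.Ex4

end

-- merged: Cfsg.Agent.OddHalf.NI3.Ex4.RowsOf
section

/-!
# (EX4) of THEOREM NIB: the rows

`rows4 : Open4 → Rows4`: the landed rows are plugged, `Open4` is what is open.
-/

set_option autoImplicit false

namespace Cfsg.Agent.OddHalf.NI3.Ex4

open Cfsg Cfsg.Agent.OddHalf.D9.Cut

universe u

/-- the open rows -/
structure Open4 : Prop where
  o82 : ∀ (X : Type u) [Group X] [Finite X] [IsSimpleGroup X], XO82 X → Row4 X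

theorem center_eq_bot {X : Type u} [Group X] [hs : IsSimpleGroup X] (hna : ¬ IsMulCommutative X) :
    Subgroup.center X = ⊥ := by
  rcases (inferInstance : (Subgroup.center X).Normal).eq_bot_or_eq_top with h1 | h1
  · exact h1
  · exact absurd ⟨⟨fun a b => (Subgroup.mem_center_iff.1 (h1 ▸ Subgroup.mem_top b : b ∈ Subgroup.center X)) a⟩⟩ hna

theorem rows4 (O : Open4.{u}) : Rows4.{u} where
  exc2 := fun X _ _ hs hna h => by
    haveI := hs
    rcases h with h | h | h | h | h | h | h | h | h | h | h | h | h | h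
    · exact row_u62 X h
    · exact row_sp62 hs hna h
    · exact O.o82 X h
    · exact row_g24 X h
    · exact RowF4.row4_f42 (center_eq_bot hna) h
    · exact row_te62 X h
    · exact row_m12 h
    · exact row_j2 X h
    · exact RowHS.row_hs X h
    · exact row_suz X h
    · exact RowRu.ru h
    · exact row_fi22 X h
    · exact row_co1 X h
    · exact row_b X h
  exc4 := fun X _ _ hs h => by
    rcases h with h | h
    · exact row_l34 h
    · exact row_m22 h
  sz := fun X _ _ hs h => by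
    exact row_sz h

end Cfsg.Agent.OddHalf.NI3.Ex4

end
end

-- part: OddHalf/NI3/Ex4/RowsFinal
section
prune_inst 0x101065040c0010000000001000000000300000000000000010800002000610200000280040000b00080088040000000000000000420000000a000000011c00800000020001400000200000000002000000000000000000000000000000041000000000000
set_option linter.all false
open scoped Cfsg.Agent.FastGrp

-- merged: Cfsg.Agent.OddHalf.NI3.Ex4.OEight.CFourWord
section

/-!
# (EX4), the row `Ω₈⁺(2)`, the involution `w₀` of type `c₄`: words (helper831)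

`okE` : for the eight elements `β ≠ 1` of `⟨tri, conj c₀⟩` there are two triples of `(w₀, β)` in different orbits of `β`.
-/

set_option autoImplicit false
set_option linter.style.haveILetI false

namespace Cfsg.Agent.OddHalf.NI3.Ex4.O8.CFour

open Subgroup Cfsg Cfsg.Agent.OddHalf.NI3.ExTri Cfsg.Agent.OddHalf.NI3.Ex4
open Cfsg.Agent.StdO8.Model (V q B O8 Om)
open Cfsg.Agent.StdO8.D4Root (E roots Φ)
open Cfsg.Agent.StdO8.Bas (bv hd xO xb)
open Cfsg.Agent.StdO8.DataOf (xm)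
open Cfsg.Agent.StdO8.Tri (tri tri_xm rho rho_mem)
open Cfsg.Agent.StdO8.Code

section TwoT

variable {X : Type*} [Group X] {α β γ : MulAut X}

/-- two triples in different orbits -/
def TwoT (α β : MulAut X) : Prop := ∃ b c, Tri α β b ∧ Tri α β c ∧ c ≠ b ∧ c ≠ β b ∧ c ≠ β (β b)

theorem TwoT.ok (h : TwoT α β) : Ok α β := Or.inr h

theorem TwoT.ne_one (h : TwoT α β) : β ≠ 1 := by
  rintro rfl
  obtain ⟨b, -, hb, -⟩ := h
  have h1 := hb.tri
  rw [MulAut.one_apply, MulAut.one_apply, hb.sq, one_mul] at h1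
  exact hb.ne h1

theorem TwoT.sq (h : TwoT α β) (b3 : β * β * β = 1) : TwoT α (β * β) := by
  have h3 : ∀ x, β (β (β x)) = x := fun x => by
    rw [← MulAut.mul_apply, ← MulAut.mul_apply, b3, MulAut.one_apply]
  have ht : ∀ b, Tri α β b → Tri α (β * β) b := by
    intro b hb
    refine ⟨hb.fix, hb.sq, hb.ne, ?_⟩
    rw [MulAut.mul_apply, MulAut.mul_apply, h3]
    -- `b β²b βb = 1`
    have h1 : β b * β b = 1 := by rw [← map_mul, hb.sq, map_one]
    have h2 : β (β b) * β (β b) = 1 := by rw [← map_mul, h1, map_one]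
    have h4 : b⁻¹ = b := inv_eq_of_mul_eq_one_right hb.sq
    have h5 : (β b)⁻¹ = β b := inv_eq_of_mul_eq_one_right h1
    have h6 : (β (β b))⁻¹ = β (β b) := inv_eq_of_mul_eq_one_right h2
    have h7 : b = β (β b) * β b := by
      have h8 := eq_inv_of_mul_eq_one_left hb.tri
      have h9 : b = β (β b) * (β b)⁻¹ := by
        rw [h6] at h8
        rw [← h8, mul_assoc, mul_inv_cancel, mul_one]
      rw [h5] at h9
      exact h9
    rw [mul_assoc, ← h7, hb.sq]
  obtain ⟨b, c, hb, hc, n1, n2, n3⟩ := h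
  refine ⟨b, c, ht b hb, ht c hc, n1, n3, ?_⟩
  rw [MulAut.mul_apply, MulAut.mul_apply, h3]
  exact n2

theorem TwoT.conj {w : X} (hγ : γ w = w) (h : TwoT (MulAut.conj w) β) : TwoT (MulAut.conj w) (γ * β * γ⁻¹) := by
  have hf : ∀ x, (γ * β * γ⁻¹) (γ x) = γ (β x) := fun x => by
    rw [MulAut.mul_apply, MulAut.mul_apply, MulAut.inv_apply_self]
  have ht : ∀ b, Tri (MulAut.conj w) β b → Tri (MulAut.conj w) (γ * β * γ⁻¹) (γ b) := by
    intro b hb
    refine ⟨?_, by rw [← map_mul, hb.sq, map_one], fun h => hb.ne (γ.injective (by rw [h, map_one])), ?_⟩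
    · have h1 := hb.fix
      rw [MulAut.conj_apply] at h1 ⊢
      have h2 : w * γ b * w⁻¹ = γ (w * b * w⁻¹) := by rw [map_mul, map_mul, map_inv, hγ]
      rw [h2, h1]
    · rw [hf, hf, ← map_mul, ← map_mul, hb.tri, map_one]
  obtain ⟨b, c, hb, hc, n1, n2, n3⟩ := h
  refine ⟨γ b, γ c, ht b hb, ht c hc, fun e => n1 (γ.injective e), fun e => n2 (γ.injective ?_),
    fun e => n3 (γ.injective ?_)⟩
  · rw [e, hf]
  · rw [e, hf, hf]

end TwoT

/-! ### Words -/

/-- the code of a root element -/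
def cd (s : E) : ℕ × ℕ := (2 ^ (hd s).1.1, 2 ^ (hd s).2.1)

theorem bv_dec : ∀ i : Fin 8, bv i = dec (2 ^ i.1) := by decide +kernel

theorem xm_eq (s : E) : xm s = gen (cd s) := by
  have h : xO s = Cfsg.Agent.StdO8.Model.X (dec (cd s).1) (dec (cd s).2) := by
    delta xO xb cd
    generalize hd s = p
    exact congrArg₂ Cfsg.Agent.StdO8.Model.X (bv_dec p.1) (bv_dec p.2)
  delta xm gen
  exact Subtype.mk_eq_mk.2 h

/-- the word of a list of roots -/
noncomputable def wd (l : List E) : Om := word (l.map cd)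

theorem wd_nil : wd [] = 1 := rfl

theorem wd_cons (s : E) (l : List E) : wd (s :: l) = xm s * wd l := by
  rw [xm_eq]; rfl

theorem wd_append (l l' : List E) : wd (l ++ l') = wd l * wd l' := by
  rw [wd, List.map_append, word_append]; rfl

theorem wd_reverse (l : List E) : wd l.reverse = (wd l)⁻¹ := by
  rw [wd, List.map_reverse, word_reverse]; rfl

theorem tri_wd {l : List E} (h : ∀ s ∈ l, s ∈ roots) : tri (wd l) = wd (l.map rho) := by
  induction l with
  | nil => rw [List.map_nil, wd_nil, map_one]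
  | cons s l ih =>
    rw [List.map_cons, wd_cons, wd_cons, map_mul, ih fun t ht => h t (List.mem_cons_of_mem _ ht),
      tri_xm (h s List.mem_cons_self)]

/-- the words of the lists `l`, `l'` are equal -/
def same' (l l' : List E) : Bool := same (l.map cd) (l'.map cd)

theorem wd_eq {l l' : List E} (h : same' l l' = true) : wd l = wd l' := word_eq h

/-- the words of the lists `l`, `l'` are different -/
def diff' (l l' : List E) : Bool :=
  (l.map cd).all ok && (l'.map cd).all ok && basis.any fun b =>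
    ev (l.map cd) b != ev (l'.map cd) b && (ev (l.map cd) b < 256 && ev (l'.map cd) b < 256)

theorem wd_ne {l l' : List E} (h : diff' l l' = true) : wd l ≠ wd l' := by
  intro e
  rw [diff', Bool.and_eq_true, Bool.and_eq_true, List.any_eq_true (l := basis)] at h
  obtain ⟨⟨h1, h2⟩, b, -, h3⟩ := h
  simp only [Bool.and_eq_true, bne_iff_ne, decide_eq_true_eq] at h3
  obtain ⟨h3, h4, h5⟩ := h3
  have h6 := word_dec h1 b
  have h7 := word_dec h2 b
  rw [show word (l.map cd) = word (l'.map cd) from e, h7] at h6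
  exact h3 (dec_inj h5 h4 h6).symm

/-! ### The automorphisms -/

/-- the word of `w₀` -/
def W : List E := [![1, -1, 0, 0], ![0, 0, 1, -1], ![0, 0, 1, 1]]

/-- the word of `c₀` -/
def C : List E := [![1, 1, 0, 0], ![-1, -1, 0, 0]]

theorem w0_eq : w0 = wd W := by
  rw [W, wd_cons, wd_cons, wd_cons, wd_nil, mul_one, ← mul_assoc]
  rfl

/-- the element `c₀` of order 3 -/
noncomputable def c0 : Om := wd C

theorem tri_w0 : tri w0 = w0 := by
  rw [w0_eq, tri_wd (by decide)]
  exact wd_eq (by decide +kernel)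

theorem c0_w0 : c0 * w0 * c0⁻¹ = w0 := by
  rw [w0_eq, c0, ← wd_reverse, ← wd_append, ← wd_append]
  exact wd_eq (by decide +kernel)

/-- an automorphism which acts on words -/
def Acts (β : MulAut Om) (f : List E → List E) : Prop := ∀ l : List E, (∀ s ∈ l, s ∈ roots) → β (wd l) = wd (f l)

theorem acts_tri : Acts tri (fun l => l.map rho) := fun _ h => tri_wd h

theorem acts_c0 : Acts (MulAut.conj c0) (fun l => C ++ l ++ C.reverse) := by
  intro l _
  rw [MulAut.conj_apply, c0, ← wd_reverse, ← wd_append, ← wd_append]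

/-- the check for one automorphism -/
def chk (f : List E → List E) (b c : List E) : Bool :=
  same' (W ++ b ++ W.reverse) b && same' (b ++ b) [] && diff' b [] && same' (b ++ f b ++ f (f b)) [] &&
    (same' (W ++ c ++ W.reverse) c && same' (c ++ c) [] && diff' c [] && same' (c ++ f c ++ f (f c)) []) &&
    (diff' c b && diff' c (f b) && diff' c (f (f b))) &&
    (decide (∀ s ∈ b, s ∈ roots) && decide (∀ s ∈ c, s ∈ roots) && decide (∀ s ∈ f b, s ∈ roots) &&
      decide (∀ s ∈ f c, s ∈ roots))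

theorem twoT_of {β : MulAut Om} {f : List E → List E} (hf : Acts β f) {b c : List E} (h : chk f b c = true) :
    TwoT (MulAut.conj w0) β := by
  simp only [chk, Bool.and_eq_true, decide_eq_true_eq] at h
  obtain ⟨⟨⟨⟨⟨⟨b1, b2⟩, b3⟩, b4⟩, ⟨⟨⟨c1, c2⟩, c3⟩, c4⟩⟩, ⟨⟨d1, d2⟩, d3⟩⟩, ⟨⟨⟨rb, rc⟩, rfb⟩, rfc⟩⟩ := h
  have ht : ∀ b : List E, (∀ s ∈ b, s ∈ roots) → (∀ s ∈ f b, s ∈ roots) → same' (W ++ b ++ W.reverse) b = true →
      same' (b ++ b) [] = true → diff' b [] = true → same' (b ++ f b ++ f (f b)) [] = true →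
      Tri (MulAut.conj w0) β (wd b) := by
    intro b rb rfb h1 h2 h3 h4
    refine ⟨?_, ?_, ?_, ?_⟩
    · rw [MulAut.conj_apply, w0_eq, ← wd_reverse, ← wd_append, ← wd_append]
      exact wd_eq h1
    · rw [← wd_append, wd_eq h2, wd_nil]
    · rw [← wd_nil]
      exact wd_ne h3
    · rw [hf b rb, hf _ rfb, ← wd_append, ← wd_append, wd_eq h4, wd_nil]
  refine ⟨wd b, wd c, ht b rb rfb b1 b2 b3 b4, ht c rc rfc c1 c2 c3 c4, wd_ne d1, ?_, ?_⟩
  · rw [hf b rb]
    exact wd_ne d2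
  · rw [hf b rb, hf _ rfb]
    exact wd_ne d3

/-- the conjugation with `c₀` -/
noncomputable def K : MulAut Om := MulAut.conj c0

theorem tri_K : tri * K = K * tri := by
  have h1 : tri c0 = c0 := by
    rw [c0, tri_wd (by decide)]
    exact wd_eq (by decide +kernel)
  ext x : 1
  rw [MulAut.mul_apply, MulAut.mul_apply, K, MulAut.conj_apply, MulAut.conj_apply, map_mul, map_mul, map_inv, h1]

theorem K_three : K * K * K = 1 := by
  have h1 : c0 * c0 * c0 = 1 := by
    rw [c0, ← wd_append, ← wd_append, ← wd_nil]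
    exact wd_eq (by decide +kernel)
  rw [K, ← map_mul, ← map_mul, h1, map_one]

theorem tri_three : tri * tri * tri = 1 := by
  have h : (((tri * tri * tri : MulAut Om) : Om ≃* Om) : Om →* Om) = MonoidHom.id Om := by
    apply Cfsg.Agent.StdO8.Tri.hom_ext
    intro s hs
    have h1 := rho_mem s hs
    have h2 := rho_mem _ h1.1
    show tri (tri (tri (xm s))) = xm s
    rw [tri_xm hs, tri_xm h1.1, tri_xm h2.1, h1.2.2.2.2]
    rw [h1.2.2.1]
  ext x : 1
  exact DFunLike.congr_fun h x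

theorem tK : TwoT (MulAut.conj w0) K :=
  twoT_of acts_c0 (b := [![1, 0, 1, 0]]) (c := [![1, -1, 0, 0], ![1, 0, 0, 1], ![1, 0, 0, -1]]) (by decide +kernel)

theorem tT : TwoT (MulAut.conj w0) tri :=
  twoT_of acts_tri (b := [![1, -1, 0, 0], ![0, 0, 1, 1]]) (c := [![1, 0, 0, 1], ![1, 0, 0, -1]]) (by decide +kernel)

theorem tTK : TwoT (MulAut.conj w0) (K * tri) := by
  refine twoT_of (f := fun l => C ++ l.map rho ++ C.reverse) ?_ (b := [![1, 0, 1, 0]])
    (c := [![1, -1, 0, 0], ![0, 0, 1, 1]]) (by decide +kernel)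
  intro l h
  rw [MulAut.mul_apply, tri_wd h, K, MulAut.conj_apply, c0, ← wd_reverse, ← wd_append, ← wd_append]

theorem tTKK : TwoT (MulAut.conj w0) (K * K * tri) := by
  refine twoT_of (f := fun l => C ++ (C ++ l.map rho ++ C.reverse) ++ C.reverse) ?_ (b := [![1, 0, 1, 0]])
    (c := [![1, -1, 0, 0], ![0, 0, 1, 1]]) (by decide +kernel)
  intro l h
  rw [MulAut.mul_apply, MulAut.mul_apply, tri_wd h, K, MulAut.conj_apply, MulAut.conj_apply, c0, ← wd_reverse,
    ← wd_append, ← wd_append, ← wd_append, ← wd_append]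

end Cfsg.Agent.OddHalf.NI3.Ex4.O8.CFour

end

-- merged: Cfsg.Agent.OddHalf.NI3.Ex4.OEight.CFour
section

/-!
# (EX4), the row `Ω₈⁺(2)`: the involution `w₀` of type `c₄` is dead (helper831)

The 3-part of the centralizer of `w₀` in `Aut Ω₈⁺(2)` is 9: a 3-subgroup of `C_{O₈}(w₀)` acts faithfully on the flag
`⟨e₂⟩ < ⟨e₀, f₁, e₂⟩ < C_V(w₀) < V`, so it has order at most 3. Hence every `β` of order 3 fixing `w₀` is conjugate in
`C_{Aut}(w₀)` to an element of `⟨tri, conj c₀⟩`.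
-/

set_option autoImplicit false
set_option linter.style.haveILetI false

namespace Cfsg.Agent.OddHalf.NI3.Ex4.O8.CFour

open Subgroup Cfsg Cfsg.Agent.OddHalf.NI3.ExTri Cfsg.Agent.OddHalf.NI3.Ex4
open Cfsg.Agent.StdO8.Model (V q B O8 Om O8_q O8_B)
open Cfsg.Agent.StdO8.D4Root (E roots Φ)
open Cfsg.Agent.StdO8.Tri (tri)
open Cfsg.Agent.StdO8.Aut (cj cj_coe index_range)
open Cfsg.Agent.StdO8.Code

/-! ### The flag -/

/-- codes of `U₃ = ⟨e₀, f₁, e₂⟩` -/
def U3 : List ℕ := [0, 1, 32, 33, 4, 5, 36, 37]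

/-- codes of `U₄ = C_V(w₀) = ⟨e₀, f₁, e₂, e₃ + f₃⟩` -/
def U4 : List ℕ := U3 ++ U3.map (· ^^^ 136)

theorem ok_W : (W.map cd).all ok = true := by decide +kernel

theorem w0_dec (v : ℕ) : ((w0 : Om) : V ≃ₗ[ZMod 2] V) (dec v) = dec (ev (W.map cd) v) := by
  rw [w0_eq]
  exact word_dec ok_W v

private def tbW (n : ℕ) : ℕ := Nat.mod (Nat.shiftRight 0x52535150565755545e5f5d5c5a5b595862636160666765646e6f6d6c6a6b696872737170767775747e7f7d7c7a7b797842434140464745444e4f4d4c4a4b49489e9f9d9c9a9b99989293919096979594aeafadacaaaba9a8a2a3a1a0a6a7a5a4bebfbdbcbabbb9b8b2b3b1b0b6b7b5b48e8f8d8c8a8b89888283818086878584d6d7d5d4d2d3d1d0dadbd9d8dedfdddce6e7e5e4e2e3e1e0eaebe9e8eeefedecf6f7f5f4f2f3f1f0fafbf9f8fefffdfcc6c7c5c4c2c3c1c0cacbc9c8cecfcdcc1a1b19181e1f1d1c16171514121311102a2b29282e2f2d2c26272524222321203a3b39383e3f3d3c36373534323331300a0b09080e0f0d0c0607050402030100 (Nat.mul 8 n)) 256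

private theorem W_lit : W.map cd = [(1, 32), (4, 128), (4, 8)] := by decide +kernel

private theorem fin_of {p : ℕ → Bool} (h : (List.range 256).all p = true) (n : Fin 256) : p n.1 = true :=
  List.all_eq_true.1 h n.1 (List.mem_range.2 n.2)

private theorem ev_tb (n : Fin 256) : ev (W.map cd) n.1 = tbW n.1 := by
  rw [W_lit]
  exact Nat.eq_of_beq_eq_true
    (fin_of (p := fun n => Nat.beq (ev [(1, 32), (4, 128), (4, 8)] n) (tbW n)) (by decide +kernel) n)

theorem lt_ev : ∀ n : Fin 256, ev (W.map cd) n.1 < 256 := fun n => by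
  rw [ev_tb]
  exact Nat.mod_lt _ (by decide)

theorem fix_iff : ∀ n : Fin 256, ev (W.map cd) n.1 = n.1 ↔ n.1 ∈ U4 := fun n => by
  rw [ev_tb]
  exact of_decide_eq_true (fin_of (p := fun n => decide (tbW n = n ↔ n ∈ U4)) (by decide +kernel) n)

theorem q_U4 : ∀ n ∈ U4, qn n = false ↔ n ∈ U3 := by decide +kernel

theorem perp_U4 : ∀ n : Fin 256, (∀ m ∈ U4, Bn n.1 m = false) → n.1 ∈ U4 := fun n h =>
  of_decide_eq_true (fin_of (p := fun n => decide (Bn n 1 = false → Bn n 32 = false → Bn n 4 = false →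
    Bn n 136 = false → n ∈ U4)) (by decide +kernel) n)
    (h 1 (by decide)) (h 32 (by decide)) (h 4 (by decide)) (h 136 (by decide))

theorem form_W : ∀ n : Fin 256, Bn n.1 (ev (W.map cd) n.1) = Bn n.1 4 := fun n => by
  rw [ev_tb]
  exact of_decide_eq_true (fin_of (p := fun n => decide (Bn n (tbW n) = Bn n 4)) (by decide +kernel) n)

theorem lt_U4 : ∀ n ∈ U4, n < 256 := by decide +kernel

/-- membership of a vector in a list of codes -/
def In (v : V) (L : List ℕ) : Prop := ∃ n ∈ L, v = dec n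

theorem fix_iff' (v : V) : ((w0 : Om) : V ≃ₗ[ZMod 2] V) v = v ↔ In v U4 := by
  obtain ⟨n, hn, rfl⟩ := dec_surj v
  rw [w0_dec]
  constructor
  · intro h
    have h1 := dec_inj (lt_ev ⟨n, hn⟩) hn h
    exact ⟨n, (fix_iff ⟨n, hn⟩).1 h1, rfl⟩
  · rintro ⟨m, hm, h⟩
    have h1 := dec_inj hn (lt_U4 m hm) h
    subst h1
    rw [(fix_iff ⟨n, hn⟩).2 hm]

theorem in_U3_iff (v : V) : In v U3 ↔ In v U4 ∧ q v = 0 := by
  constructor
  · rintro ⟨n, hn, rfl⟩
    have h1 : n ∈ U4 := List.mem_append_left _ hn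
    refine ⟨⟨n, h1, rfl⟩, ?_⟩
    rw [q_dec, (q_U4 n h1).2 hn]
    rfl
  · rintro ⟨⟨n, hn, rfl⟩, h⟩
    rw [q_dec] at h
    exact ⟨n, (q_U4 n hn).1 (cc_eq_zero h), rfl⟩

theorem perp_U4' (v : V) (h : ∀ u, In u U4 → B v u = 0) : In v U4 := by
  obtain ⟨n, hn, rfl⟩ := dec_surj v
  refine ⟨n, perp_U4 ⟨n, hn⟩ fun m hm => ?_, rfl⟩
  have h1 := h (dec m) ⟨m, hm, rfl⟩
  rw [B_dec] at h1
  exact cc_eq_zero h1

theorem form_W' (v : V) : B v (((w0 : Om) : V ≃ₗ[ZMod 2] V) v) = B v (dec 4) := by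
  obtain ⟨n, hn, rfl⟩ := dec_surj v
  rw [w0_dec, B_dec, B_dec, form_W ⟨n, hn⟩]

/-! ### Elements of odd order of `C_{O₈}(w₀)` -/

theorem iter_add {M : V ≃ₗ[ZMod 2] V} {v x : V} (hv : M v = v + x) (hx : M x = x) (n : ℕ) :
    (M ^ n) v = v + n • x := by
  induction n with
  | zero => rw [pow_zero, zero_smul, add_zero]; rfl
  | succ n ih =>
    rw [pow_succ']
    show M ((M ^ n) v) = _
    rw [ih, map_add, map_nsmul, hx, hv, succ_nsmul]
    abel

theorem two_nsmul_V (x : V) : 2 • x = 0 := by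
  rw [two_nsmul]; exact Cfsg.Agent.StdO8.Model.add_self x

/-- an element of odd order with `[v, M] ≤ C(M)` centralizes `v` -/
theorem odd_fix {M : V ≃ₗ[ZMod 2] V} {n : ℕ} (hn : Odd n) (hM : M ^ n = 1) {v x : V} (hv : M v = v + x)
    (hx : M x = x) : M v = v := by
  have h1 := iter_add hv hx n
  rw [hM] at h1
  have h2 : n • x = 0 := by
    have h3 : v = v + n • x := h1
    exact (left_eq_add.1 h3)
  obtain ⟨k, rfl⟩ := hn
  rw [add_smul, one_smul, mul_comm, mul_smul, two_nsmul_V, smul_zero, zero_add] at h2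
  rw [hv, h2, add_zero]

/-- **an element of odd order of `C_{O₈}(w₀)` which fixes `e₀` modulo `e₂` is 1** -/
theorem eq_one {M : V ≃ₗ[ZMod 2] V} (hO : M ∈ O8) (hw : M * (w0 : Om) = (w0 : Om) * M) {n : ℕ} (hn : Odd n)
    (hM : M ^ n = 1) (h1 : M (dec 1) = dec 1 ∨ M (dec 1) = dec 1 + dec 4) : M = 1 := by
  have hw' : ∀ v, ((w0 : Om) : V ≃ₗ[ZMod 2] V) (M v) = M (((w0 : Om) : V ≃ₗ[ZMod 2] V) v) := fun v =>
    (DFunLike.congr_fun hw v).symm
  have hU4 : ∀ v, In v U4 → In (M v) U4 := by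
    intro v hv
    rw [← fix_iff'] at hv ⊢
    rw [hw', hv]
  have hU3 : ∀ v, In v U3 → In (M v) U3 := by
    intro v hv
    rw [in_U3_iff] at hv ⊢
    exact ⟨hU4 v hv.1, by rw [O8_q hO, hv.2]⟩
  -- `e₂` is fixed
  have h4 : M (dec 4) = dec 4 := by
    apply Cfsg.Agent.StdO8.Model.eq_of_B
    intro v
    obtain ⟨u, rfl⟩ := M.surjective v
    rw [O8_B hO, Cfsg.Agent.StdO8.Model.B_comm (dec 4) (M u), ← form_W', hw', O8_B hO, form_W',
      Cfsg.Agent.StdO8.Model.B_comm]
  -- `e₀` is fixed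
  have h1' : M (dec 1) = dec 1 := by
    rcases h1 with h | h
    · exact h
    · exact odd_fix hn hM h h4
  -- `f₁` is fixed
  have h32 : M (dec 32) = dec 32 := by
    obtain ⟨a, ha, e⟩ := hU3 (dec 32) ⟨32, by decide, rfl⟩
    have hd : ∀ a ∈ U3, (a = 0 ∨ a = 1 ∨ a = 4 ∨ a = 5) ∨ ∃ x ∈ [0, 1, 4, 5], a = 32 ^^^ x := by
      decide
    have h5 : M (dec 5) = dec 5 := by
      rw [show (5 : ℕ) = 1 ^^^ 4 from rfl, dec_xor, map_add, h1', h4]
    have hfix : ∀ x : ℕ, (x = 0 ∨ x = 1 ∨ x = 4 ∨ x = 5) → M (dec x) = dec x := by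
      rintro x (rfl | rfl | rfl | rfl)
      · rw [dec_zero, map_zero]
      · exact h1'
      · exact h4
      · exact h5
    rcases hd a ha with h | ⟨x, hx, h⟩
    · exfalso
      have h6 := hfix a h
      have h7 : dec 32 = dec a := M.injective (by rw [h6, e])
      have h8 : a < 256 := by rcases h with rfl | rfl | rfl | rfl <;> norm_num
      have h9 := dec_inj (by norm_num) h8 h7
      rcases h with rfl | rfl | rfl | rfl <;> omega
    · refine odd_fix hn hM (x := dec x) ?_ (hfix x (by simpa using hx))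
      rw [e, h, dec_xor]
  -- `U₃` is fixed
  have hU3' : ∀ a ∈ U3, M (dec a) = dec a := by
    have hd : ∀ a ∈ U3, ∃ x y z : Bool, a = (if x then 1 else 0) ^^^ (if y then 32 else 0) ^^^ (if z then 4 else 0) := by
      decide
    intro a ha
    obtain ⟨x, y, z, rfl⟩ := hd a ha
    rw [dec_xor, dec_xor, dec_ite, dec_ite, dec_ite, map_add, map_add, map_smul, map_smul, map_smul, h1', h32, h4]
  -- `U₄` is fixed
  have h136 : M (dec 136) = dec 136 := by
    obtain ⟨a, ha, e⟩ := hU4 (dec 136) ⟨136, by decide, rfl⟩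
    have hd : ∀ a ∈ U4, a ∈ U3 ∨ ∃ x ∈ U3, a = 136 ^^^ x := by decide
    rcases hd a ha with h | ⟨x, hx, h⟩
    · exfalso
      have h6 := hU3' a h
      have h7 : dec 136 = dec a := M.injective (by rw [h6, e])
      have h8 : a < 256 := lt_U4 a ha
      have h9 := dec_inj (by norm_num) h8 h7
      subst h9
      revert h
      decide
    · refine odd_fix hn hM (x := dec x) ?_ (hU3' x hx)
      rw [e, h, dec_xor]
  have hU4' : ∀ u, In u U4 → M u = u := by
    rintro _ ⟨a, ha, rfl⟩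
    have hd : ∀ a ∈ U4, a ∈ U3 ∨ ∃ x ∈ U3, a = 136 ^^^ x := by decide
    rcases hd a ha with h | ⟨x, hx, h⟩
    · exact hU3' a h
    · rw [h, dec_xor, map_add, h136, hU3' x hx]
  -- `V` is fixed
  apply LinearEquiv.ext
  intro v
  have h5 : In (M v + v) U4 := by
    apply perp_U4'
    intro u hu
    rw [Cfsg.Agent.StdO8.Model.B_add_left]
    have h6 := O8_B hO v u
    rw [hU4' u hu] at h6
    rw [h6]
    exact CharTwo.add_self_eq_zero _
  have h6 : M v = v + (M v + v) := by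
    rw [add_comm (M v) v, ← add_assoc, Cfsg.Agent.StdO8.Model.add_self, zero_add]
  exact odd_fix hn hM h6 (hU4' _ h5)

/-- the vectors `e₀, f₁, e₀ + f₁` -/
noncomputable def three : Finset V := {dec 1, dec 32, dec 33}

/-- **a 3-subgroup of `C_{O₈}(w₀)` has order at most 3** -/
theorem card_le_three (P : Subgroup O8) (hP : IsPGroup 3 P)
    (hw : ∀ M ∈ P, (M : V ≃ₗ[ZMod 2] V) * (w0 : Om) = (w0 : Om) * M) : Nat.card P ≤ 3 := by
  classical
  -- the value at `e₀`
  have hval : ∀ M : P, ∃ v ∈ three, ((M : O8) : V ≃ₗ[ZMod 2] V) (dec 1) = v ∨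
      ((M : O8) : V ≃ₗ[ZMod 2] V) (dec 1) = v + dec 4 := by
    intro M
    have hM := (M : O8).2
    have hw' : ∀ v, ((w0 : Om) : V ≃ₗ[ZMod 2] V) (((M : O8) : V ≃ₗ[ZMod 2] V) v) =
        ((M : O8) : V ≃ₗ[ZMod 2] V) (((w0 : Om) : V ≃ₗ[ZMod 2] V) v) := fun v =>
      (DFunLike.congr_fun (hw M M.2) v).symm
    have h3 : In (((M : O8) : V ≃ₗ[ZMod 2] V) (dec 1)) U3 := by
      have h1 : In (dec 1) U3 := ⟨1, by decide, rfl⟩
      rw [in_U3_iff] at h1 ⊢
      rw [← fix_iff'] at h1 ⊢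
      exact ⟨by rw [hw', h1.1], by rw [O8_q hM, h1.2]⟩
    obtain ⟨a, ha, e⟩ := h3
    have h4 : ((M : O8) : V ≃ₗ[ZMod 2] V) (dec 4) = dec 4 := by
      apply Cfsg.Agent.StdO8.Model.eq_of_B
      intro v
      obtain ⟨u, rfl⟩ := ((M : O8) : V ≃ₗ[ZMod 2] V).surjective v
      rw [O8_B hM, Cfsg.Agent.StdO8.Model.B_comm (dec 4) (((M : O8) : V ≃ₗ[ZMod 2] V) u), ← form_W', hw', O8_B hM,
        form_W', Cfsg.Agent.StdO8.Model.B_comm]
    have hd : ∀ a ∈ U3, a = 0 ∨ a = 4 ∨ ∃ b ∈ [1, 32, 33], a = b ∨ a = b ^^^ 4 := by decide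
    rcases hd a ha with h | h | ⟨b, hb, h⟩
    · exfalso
      have h5 : dec 1 = dec 0 := ((M : O8) : V ≃ₗ[ZMod 2] V).injective (by rw [e, h, dec_zero, map_zero])
      exact absurd (dec_inj (by norm_num) (by norm_num) h5) (by norm_num)
    · exfalso
      have h5 : dec 1 = dec 4 := ((M : O8) : V ≃ₗ[ZMod 2] V).injective (by rw [e, h, h4])
      exact absurd (dec_inj (by norm_num) (by norm_num) h5) (by norm_num)
    · refine ⟨dec b, ?_, ?_⟩
      · unfold three
        simp only [List.mem_cons, List.not_mem_nil, or_false] at hb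
        rcases hb with rfl | rfl | rfl <;> simp
      · rcases h with h | h
        · left; rw [e, h]
        · right; rw [e, h, dec_xor]
  choose φ hφ hφ' using hval
  have hinj : Function.Injective (fun M : P => (⟨φ M, hφ M⟩ : {x // x ∈ three})) := by
    intro M N hMN
    have h1 : φ M = φ N := congrArg Subtype.val hMN
    -- `N⁻¹ M`
    obtain ⟨k, hk⟩ := hP (N⁻¹ * M)
    have h2 : (((N⁻¹ * M : P) : O8) : V ≃ₗ[ZMod 2] V) ^ (3 ^ k) = 1 := by
      have := congrArg (fun x : P => ((x : O8) : V ≃ₗ[ZMod 2] V)) hk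
      simpa only [_root_.Subgroup.coe_mul, _root_.InvMemClass.coe_inv, _root_.SubmonoidClass.coe_pow, _root_.OneMemClass.coe_one] using this
    have hNinv : ∀ v, ((N : O8) : V ≃ₗ[ZMod 2] V)⁻¹ (((N : O8) : V ≃ₗ[ZMod 2] V) v) = v := fun v => by
      have : (((N : O8) : V ≃ₗ[ZMod 2] V)⁻¹ * ((N : O8) : V ≃ₗ[ZMod 2] V)) v = v := by
        rw [inv_mul_cancel]; rfl
      exact this
    have h4 : ((N : O8) : V ≃ₗ[ZMod 2] V) (dec 4) = dec 4 := by
      have hM := (N : O8).2
      have hw' : ∀ v, ((w0 : Om) : V ≃ₗ[ZMod 2] V) (((N : O8) : V ≃ₗ[ZMod 2] V) v) =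
          ((N : O8) : V ≃ₗ[ZMod 2] V) (((w0 : Om) : V ≃ₗ[ZMod 2] V) v) := fun v =>
        (DFunLike.congr_fun (hw N N.2) v).symm
      apply Cfsg.Agent.StdO8.Model.eq_of_B
      intro v
      obtain ⟨u, rfl⟩ := ((N : O8) : V ≃ₗ[ZMod 2] V).surjective v
      rw [O8_B hM, Cfsg.Agent.StdO8.Model.B_comm (dec 4) (((N : O8) : V ≃ₗ[ZMod 2] V) u), ← form_W', hw', O8_B hM,
        form_W', Cfsg.Agent.StdO8.Model.B_comm]
    have h4' : ((N : O8) : V ≃ₗ[ZMod 2] V)⁻¹ (dec 4) = dec 4 := by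
      conv_lhs => rw [← h4]
      exact hNinv _
    have h5 : (((N⁻¹ * M : P) : O8) : V ≃ₗ[ZMod 2] V) (dec 1) = dec 1 ∨
        (((N⁻¹ * M : P) : O8) : V ≃ₗ[ZMod 2] V) (dec 1) = dec 1 + dec 4 := by
      have h6 : (((N⁻¹ * M : P) : O8) : V ≃ₗ[ZMod 2] V) (dec 1) =
          ((N : O8) : V ≃ₗ[ZMod 2] V)⁻¹ (((M : O8) : V ≃ₗ[ZMod 2] V) (dec 1)) := rfl
      rw [h6]
      have h7 : ((M : O8) : V ≃ₗ[ZMod 2] V) (dec 1) = ((N : O8) : V ≃ₗ[ZMod 2] V) (dec 1) ∨
          ((M : O8) : V ≃ₗ[ZMod 2] V) (dec 1) = ((N : O8) : V ≃ₗ[ZMod 2] V) (dec 1) + dec 4 := by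
        rcases hφ' M with a | a <;> rcases hφ' N with b | b
        · left; rw [a, b, h1]
        · right; rw [a, b, h1, add_assoc, Cfsg.Agent.StdO8.Model.add_self, add_zero]
        · right; rw [a, b, h1]
        · left; rw [a, b, h1]
      rcases h7 with h7 | h7
      · left; rw [h7, hNinv]
      · right; rw [h7, map_add, hNinv, h4']
    have h6 := eq_one (M := (((N⁻¹ * M : P) : O8) : V ≃ₗ[ZMod 2] V)) ((N⁻¹ * M : P) : O8).2 (hw _ (N⁻¹ * M).2)
      (Odd.pow (by decide : Odd 3)) h2 h5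
    have h7 : N⁻¹ * M = 1 := Subtype.ext (Subtype.ext h6)
    exact (inv_mul_eq_one.1 h7).symm
  have h1 := Nat.card_le_card_of_injective _ hinj
  refine h1.trans ?_
  rw [Nat.card_eq_fintype_card, Fintype.card_coe]
  exact Finset.card_le_three

/-! ### The Sylow 3-subgroup of `C_{Aut}(w₀)` -/

/-- the centralizer of `w₀` in `Aut Ω₈⁺(2)` -/
noncomputable def HH : Subgroup (MulAut Om) := MulAction.stabilizer (MulAut Om) w0

theorem mem_HH {γ : MulAut Om} : γ ∈ HH ↔ γ w0 = w0 := Iff.rfl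

theorem card_le_nine (P : Subgroup (MulAut Om)) (hP : IsPGroup 3 P) (hw : P ≤ HH) : Nat.card P ≤ 9 := by
  have hinj := Cfsg.Agent.StdO8.Frame.Ctx.cj_injective
  have h1 : Nat.card (P.comap cj) ≤ 3 := by
    apply card_le_three _ (hP.comap_of_injective cj hinj)
    intro M hM
    have h2 : cj M w0 = w0 := hw hM
    have h3 := congrArg Subtype.val h2
    rw [cj_coe, mul_inv_eq_iff_eq_mul] at h3
    exact h3
  have h2 : Nat.card (cj.range ⊓ P : Subgroup (MulAut Om)) ≤ 3 := by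
    rw [← Subgroup.map_comap_eq, Subgroup.card_map_of_injective hinj]
    exact h1
  have h3 : cj.range.relIndex P ≤ 3 := by
    have h4 := Subgroup.relIndex_le_of_le_right (H := cj.range) (le_top : P ≤ ⊤) (by
      rw [Subgroup.relIndex_top_right, _root_.Cfsg.Agent.StdO8.Aut.index_range]; norm_num)
    rwa [Subgroup.relIndex_top_right, _root_.Cfsg.Agent.StdO8.Aut.index_range] at h4
  have h4 : Nat.card (cj.range ⊓ P : Subgroup (MulAut Om)) * cj.range.relIndex P = Nat.card P := by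
    have h5 := (cj.range.subgroupOf P).card_mul_index
    have h6 : Nat.card (cj.range.subgroupOf P) = Nat.card (cj.range ⊓ P : Subgroup (MulAut Om)) := by
      rw [← Subgroup.subgroupOf_map_subtype, Subgroup.card_map_of_injective P.subtype_injective]
    rw [h6] at h5
    exact h5
  rw [← h4]
  exact Nat.mul_le_mul h2 h3

/-- `⟨tri, conj c₀⟩` -/
noncomputable def E0 : Subgroup (MulAut Om) where
  carrier := {γ | ∃ i j : ℕ, γ = K ^ i * tri ^ j}
  one_mem' := ⟨0, 0, by rw [pow_zero, pow_zero, one_mul]⟩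
  mul_mem' := by
    rintro _ _ ⟨i, j, rfl⟩ ⟨k, l, rfl⟩
    refine ⟨i + k, j + l, ?_⟩
    have h : Commute (tri ^ j) (K ^ k) := Commute.pow_pow tri_K j k
    rw [pow_add, pow_add, mul_assoc, ← mul_assoc (tri ^ j), h.eq]
    group
  inv_mem' := by
    rintro _ ⟨i, j, rfl⟩
    refine ⟨2 * i, 2 * j, ?_⟩
    have hK : K ^ 3 = 1 := by rw [pow_succ, pow_two, K_three]
    have hT : tri ^ 3 = 1 := by rw [pow_succ, pow_two, tri_three]
    have h : Commute (tri ^ j) (K ^ (2 * i)) := Commute.pow_pow tri_K j (2 * i)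
    rw [inv_eq_iff_mul_eq_one, mul_assoc, ← mul_assoc (tri ^ j), h.eq]
    have h1 : K ^ i * (K ^ (2 * i) * tri ^ j * tri ^ (2 * j)) = K ^ (i + 2 * i) * tri ^ (j + 2 * j) := by
      rw [pow_add, pow_add]; group
    rw [h1, show i + 2 * i = 3 * i by ring, show j + 2 * j = 3 * j by ring, pow_mul, pow_mul, hK, hT, one_pow, one_pow,
      one_mul]

theorem K_pow : K ^ 3 = 1 := by rw [pow_succ, pow_two, K_three]
theorem tri_pow : tri ^ 3 = 1 := by rw [pow_succ, pow_two, tri_three]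

/-- abstract form: a property of the elements of `⟨k⟩ × ⟨t⟩` (exponent 3) closed under squares -/
theorem abs_pow {Γ : Type*} [Group Γ] {k t : Γ} (hc : t * k = k * t) (hk : k ^ 3 = 1) (ht : t ^ 3 = 1) (p : Γ → Prop)
    (hp : ∀ x, p x → x * x * x = 1 → p (x * x)) (p1 : p k) (p2 : p t) (p3 : p (k * t)) (p4 : p (k * k * t))
    {i j : ℕ} (h : ¬ (3 ∣ i ∧ 3 ∣ j)) : p (k ^ i * t ^ j) := by
  have hcp : ∀ i j : ℕ, Commute (k ^ i) (t ^ j) := fun i j =>
    (Commute.pow_pow (show Commute t k from hc) j i).symm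
  have hsq : ∀ i j : ℕ, p (k ^ i * t ^ j) → p (k ^ (2 * i) * t ^ (2 * j)) := by
    intro i j h
    have h1 : k ^ i * t ^ j * (k ^ i * t ^ j) = k ^ (2 * i) * t ^ (2 * j) := by
      rw [(hcp i j).symm.mul_mul_mul_comm, ← pow_add, ← pow_add, two_mul, two_mul]
    have h2 : k ^ i * t ^ j * (k ^ i * t ^ j) * (k ^ i * t ^ j) = 1 := by
      rw [h1, (hcp i (2 * j)).symm.mul_mul_mul_comm, ← pow_add, ← pow_add, show 2 * i + i = 3 * i by ring,
        show 2 * j + j = 3 * j by ring, pow_mul, pow_mul, hk, ht, one_pow, one_pow, one_mul]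
    rw [← h1]
    exact hp _ h h2
  have t10 : p (k ^ 1 * t ^ 0) := by rwa [pow_one, pow_zero, mul_one]
  have t01 : p (k ^ 0 * t ^ 1) := by rwa [pow_one, pow_zero, one_mul]
  have t11 : p (k ^ 1 * t ^ 1) := by rwa [pow_one, pow_one]
  have t21 : p (k ^ 2 * t ^ 1) := by rwa [pow_two, pow_one]
  have t20 : p (k ^ 2 * t ^ 0) := hsq 1 0 t10
  have t02 : p (k ^ 0 * t ^ 2) := hsq 0 1 t01
  have t22 : p (k ^ 2 * t ^ 2) := hsq 1 1 t11
  have t12 : p (k ^ 1 * t ^ 2) := by
    have h1 := hsq 2 1 t21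
    have h2 : k ^ (2 * 2) = k ^ 1 := by
      rw [show 2 * 2 = 3 + 1 from rfl, pow_succ, hk, one_mul, pow_one]
    rw [h2, Nat.mul_one] at h1
    exact h1
  rw [← Nat.mod_add_div i 3, ← Nat.mod_add_div j 3, pow_add, pow_add, pow_mul, pow_mul, hk, ht, one_pow, one_pow,
    mul_one, mul_one]
  have h5 : i % 3 = 0 ∨ i % 3 = 1 ∨ i % 3 = 2 := by omega
  have h6 : j % 3 = 0 ∨ j % 3 = 1 ∨ j % 3 = 2 := by omega
  rcases h5 with a | a | a <;> rcases h6 with b | b | b <;> rw [a, b]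
  · exact absurd ⟨Nat.dvd_of_mod_eq_zero a, Nat.dvd_of_mod_eq_zero b⟩ h
  · exact t01
  · exact t02
  · exact t10
  · exact t11
  · exact t12
  · exact t20
  · exact t21
  · exact t22

/-- **the elements `≠ (0, 0)` of `E₀` have two triples** -/
theorem twoT_pow {i j : ℕ} (h : ¬ (3 ∣ i ∧ 3 ∣ j)) : TwoT (MulAut.conj w0) (K ^ i * tri ^ j) :=
  abs_pow tri_K K_pow tri_pow (TwoT (MulAut.conj w0)) (fun _ h1 h2 => h1.sq h2) tK tT tTK tTKK h

theorem E0_le : E0 ≤ HH := by
  have hK : K ∈ HH := by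
    rw [mem_HH, K, MulAut.conj_apply, c0_w0]
  have hT : tri ∈ HH := tri_w0
  rintro _ ⟨i, j, rfl⟩
  exact mul_mem (pow_mem hK _) (pow_mem hT _)

theorem E0_pGroup : IsPGroup 3 E0 := by
  rintro ⟨_, i, j, rfl⟩
  refine ⟨1, Subtype.ext ?_⟩
  show (K ^ i * tri ^ j) ^ (3 ^ 1) = 1
  have h : Commute (K ^ i) (tri ^ j) := (Commute.pow_pow tri_K j i).symm
  rw [pow_one, h.mul_pow, ← pow_mul, ← pow_mul, mul_comm i, mul_comm j, pow_mul, pow_mul, K_pow, tri_pow, one_pow,
    one_pow, one_mul]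

theorem nine_le : 9 ≤ Nat.card E0 := by
  have hinj : Function.Injective (fun p : Fin 3 × Fin 3 => (⟨K ^ p.1.1 * tri ^ p.2.1, p.1.1, p.2.1, rfl⟩ : E0)) := by
    rintro ⟨i, j⟩ ⟨k, l⟩ h
    by_contra hne
    have h1 : K ^ i.1 * tri ^ j.1 = K ^ k.1 * tri ^ l.1 := congrArg Subtype.val h
    have h2 : K ^ (i.1 + 2 * k.1) * tri ^ (j.1 + 2 * l.1) = 1 := by
      have hc : Commute (K ^ (2 * k.1)) (tri ^ j.1) := (Commute.pow_pow tri_K j.1 (2 * k.1)).symm
      have hc2 : Commute (K ^ (2 * k.1)) (tri ^ l.1) := (Commute.pow_pow tri_K l.1 (2 * k.1)).symm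
      calc K ^ (i.1 + 2 * k.1) * tri ^ (j.1 + 2 * l.1) = K ^ i.1 * (K ^ (2 * k.1) * tri ^ j.1) * tri ^ (2 * l.1) := by
            rw [pow_add, pow_add]; group
        _ = K ^ i.1 * tri ^ j.1 * (K ^ (2 * k.1) * tri ^ (2 * l.1)) := by rw [hc.eq]; group
        _ = K ^ k.1 * tri ^ l.1 * (K ^ (2 * k.1) * tri ^ (2 * l.1)) := by rw [h1]
        _ = K ^ k.1 * (tri ^ l.1 * K ^ (2 * k.1)) * tri ^ (2 * l.1) := by group
        _ = K ^ k.1 * (K ^ (2 * k.1) * tri ^ l.1) * tri ^ (2 * l.1) := by rw [hc2.eq]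
        _ = K ^ (3 * k.1) * tri ^ (3 * l.1) := by
            rw [show 3 * k.1 = k.1 + 2 * k.1 by ring, show 3 * l.1 = l.1 + 2 * l.1 by ring, pow_add, pow_add]; group
        _ = 1 := by rw [pow_mul, pow_mul, K_pow, tri_pow, one_pow, one_pow, one_mul]
    have h3 : ¬ (3 ∣ i.1 + 2 * k.1 ∧ 3 ∣ j.1 + 2 * l.1) := by
      rintro ⟨h4, h5⟩
      apply hne
      have h6 : i = k := Fin.ext (by omega)
      have h7 : j = l := Fin.ext (by omega)
      rw [h6, h7]
    exact (twoT_pow h3).ne_one h2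
  have h1 := Nat.card_le_card_of_injective _ hinj
  rwa [Nat.card_prod, Nat.card_fin] at h1

/-- **The involution `w₀` is dead.** -/
theorem dead_w0 : Dead w0 := by
  haveI : Fact (Nat.Prime 3) := ⟨Nat.prime_three⟩
  haveI : Finite (MulAut Om) := inferInstance
  refine dead_of_ok Cfsg.Agent.StdO8.Model.center_Om fun β b3 bne hβ => ?_
  -- a Sylow 3-subgroup of `C(w₀)`
  have hE : IsPGroup 3 (E0.subgroupOf HH) := E0_pGroup.comap_of_injective HH.subtype HH.subtype_injective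
  obtain ⟨P, hP⟩ := hE.exists_le_sylow
  have hP9 : Nat.card (P : Subgroup HH) ≤ 9 := by
    rw [← Subgroup.card_map_of_injective (f := HH.subtype) HH.subtype_injective]
    exact card_le_nine _ (P.2.map _) (Subgroup.map_subtype_le _)
  have hPE : (P : Subgroup HH) = E0.subgroupOf HH := by
    refine (Subgroup.eq_of_le_of_card_ge hP (hP9.trans ?_)).symm
    rw [Nat.card_congr (Subgroup.subgroupOfEquivOfLe E0_le).toEquiv]
    exact nine_le
  -- `β` lies in a conjugate
  have hZ : IsPGroup 3 (Subgroup.zpowers (⟨β, hβ⟩ : HH)) := by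
    rw [IsPGroup.iff_orderOf]
    rintro ⟨x, hx⟩
    obtain ⟨m, rfl⟩ := Subgroup.mem_zpowers_iff.1 hx
    have h3 : (⟨β, hβ⟩ : HH) ^ 3 = 1 := Subtype.ext (by
      show β ^ 3 = 1
      rw [pow_succ, pow_two, b3])
    have h4 : orderOf (⟨(⟨β, hβ⟩ : HH) ^ m, hx⟩ : Subgroup.zpowers (⟨β, hβ⟩ : HH)) ∣ 3 := by
      apply orderOf_dvd_of_pow_eq_one
      apply Subtype.ext
      show ((⟨β, hβ⟩ : HH) ^ m) ^ 3 = 1
      rw [← zpow_natCast, ← zpow_mul, mul_comm, zpow_mul, zpow_natCast, h3, one_zpow]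
    rcases (Nat.dvd_prime Nat.prime_three).1 h4 with h5 | h5
    · exact ⟨0, by rw [h5, pow_zero]⟩
    · exact ⟨1, by rw [h5, pow_one]⟩
  obtain ⟨Q, hQ⟩ := hZ.exists_le_sylow
  obtain ⟨g, hg⟩ := MulAction.exists_smul_eq HH Q P
  have h1 : g * ⟨β, hβ⟩ * g⁻¹ ∈ (P : Subgroup HH) := by
    rw [← hg]
    exact Subgroup.smul_mem_pointwise_smul _ (MulAut.conj g) _ (hQ (Subgroup.mem_zpowers _))
  rw [hPE] at h1
  obtain ⟨i, j, h2⟩ : ∃ i j : ℕ, (g : MulAut Om) * β * (g : MulAut Om)⁻¹ = K ^ i * tri ^ j := h1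
  have h3 : ¬ (3 ∣ i ∧ 3 ∣ j) := by
    rintro ⟨⟨a, rfl⟩, ⟨b, rfl⟩⟩
    rw [pow_mul, pow_mul, K_pow, tri_pow, one_pow, one_pow, one_mul] at h2
    apply bne
    have h4 : β = (g : MulAut Om)⁻¹ * ((g : MulAut Om) * β * (g : MulAut Om)⁻¹) * g := by group
    rw [h4, h2]; group
  have h4 := twoT_pow h3
  rw [← h2] at h4
  have hg' : (g : MulAut Om)⁻¹ w0 = w0 := (g⁻¹).2
  have h5 := h4.conj hg'
  have h6 : (g : MulAut Om)⁻¹ * ((g : MulAut Om) * β * (g : MulAut Om)⁻¹) * (g : MulAut Om)⁻¹⁻¹ = β := by group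
  rw [h6] at h5
  exact h5.ok

end Cfsg.Agent.OddHalf.NI3.Ex4.O8.CFour

end

-- merged: Cfsg.Agent.OddHalf.NI3.Ex4.OEight.CTwo
section

/-!
# (EX4), the row `Ω₈⁺(2)`: the involutions of type `c₂` (helper40, piece (P2) of helper219)

`dead_c2` : an involution `w = X s n`, `q s = 0`, `q n = 1`, is `Dead`.

An automorphism `β` of order 3 fixing `w` is the conjugation with an isometry `M` of order 3 which fixes `s` and `n`.
For `a + M a + M² a = 0`, `a ≠ 0`, the element `X s a` is a triple. If there is only one such `⟨M⟩`-orbit `a, M a, M² a`,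
then there is a second singular vector `s'` fixed by `M` and orthogonal to `s` and `n`, and `X s' a` is a triple.
-/

set_option autoImplicit false
set_option linter.style.haveILetI false

namespace Cfsg.Agent.OddHalf.NI3.Ex4.O8.CTwo

open Subgroup Cfsg Cfsg.Agent.OddHalf.NI3.ExTri
open Cfsg.Agent.StdO8.Model Cfsg.Agent.StdO8.Aut

/-- the linear data -/
structure Dat (M : V ≃ₗ[ZMod 2] V) (s n : V) : Prop where
  mem : M ∈ O8
  m3 : ∀ v, M (M (M v)) = v
  ms : M s = s
  mn : M n = n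
  qs : q s = 0
  s0 : s ≠ 0
  sn : B s n = 0
  qn : q n = 1

section Lin

variable {M : V ≃ₗ[ZMod 2] V} {s n : V}

/-- fixed vectors are orthogonal to the vectors of trace 0 -/
theorem perp (hM : M ∈ O8) {x a : V} (hx : M x = x) (ha : a + M a + M (M a) = 0) : B x a = 0 := by
  have h1 : B x (M a) = B x a := by
    have := O8_B hM x a
    rwa [hx] at this
  have h2 : B x (M (M a)) = B x (M a) := by
    have := O8_B hM x (M a)
    rwa [hx] at this
  have h3 : B x (a + M a + M (M a)) = 0 := by rw [ha, B_zero_right]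
  rw [B_add_right, B_add_right, h2, h1] at h3
  have : ∀ c : ZMod 2, c + c + c = 0 → c = 0 := by decide
  exact this _ h3

theorem M_ne {a : V} (ha : a + M a + M (M a) = 0) (h0 : a ≠ 0) : M a ≠ a := by
  intro h1
  rw [h1, h1, add_self, zero_add] at ha
  exact h0 ha

/-- `X s a ≠ 1` -/
theorem X_ne_one {s a : V} (hs : q s = 0) (s0 : s ≠ 0) (hsa : B s a = 0) (h0 : a ≠ 0) (h1 : a ≠ s) : X s a ≠ 1 := by
  intro h
  obtain ⟨v, e1, e2⟩ := exists_B s0 h0 h1.symm 1 0
  have h2 : X s a v = v := by rw [h]; rfl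
  rw [X_apply' hs hsa, e1, e2, one_smul, zero_smul, add_zero, mul_one, add_assoc] at h2
  have h3 : a + q a • s = 0 := add_eq_left.1 h2
  rcases z2 (q a) with h4 | h4
  · rw [h4, zero_smul, add_zero] at h3
    exact h0 h3
  · rw [h4, one_smul] at h3
    exact h1 (eq_of_add_eq_zero h3)

/-- two transformations with different centres fixed by `M` -/
theorem X_ne {s s' a a' : V} (hs : q s = 0) (hs' : q s' = 0) (s0 : s ≠ 0) (s0' : s' ≠ 0) (hne : s' ≠ s)
    (h : B s a' = 0) (h' : B s' a = 0) (ms : M s = s) (ms' : M s' = s') (ma : M a ≠ a) : X s' a ≠ X s a' := by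
  intro e
  obtain ⟨v, e1, e2⟩ := exists_B s0' s0 hne 1 0
  have h2 : X s' a v = X s a' v := by rw [e]
  rw [X_apply' hs' h', X_apply' hs h, e1, e2, one_smul, mul_one, mul_zero, zero_smul, zero_smul, add_zero, add_zero]
    at h2
  have h3 : a = B a' v • s + (B a v • s' + q a • s') := by
    have h4 : v + (a + (B a v • s' + q a • s')) = v + B a' v • s := by rw [← h2]; abel
    have h5 := add_left_cancel h4
    calc a = a + ((B a v • s' + q a • s') + (B a v • s' + q a • s')) := by rw [add_self, add_zero]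
      _ = (a + (B a v • s' + q a • s')) + (B a v • s' + q a • s') := by abel
      _ = _ := by rw [h5]
  apply ma
  conv_lhs => rw [h3]
  rw [map_add, map_add, map_smul, map_smul, map_smul, ms, ms', ← h3]

namespace Dat

variable (D : Dat M s n)

include D

theorem n0 : n ≠ 0 := by
  intro h
  have h1 := D.qn
  rw [h, q_zero] at h1
  exact absurd h1 (by decide)

/-- the trace is fixed -/
theorem fix_tr (v : V) : M (v + M v + M (M v)) = v + M v + M (M v) := by
  rw [map_add, map_add, D.m3]; abel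

/-- `v + M v` has trace 0 -/
theorem tr_add (v : V) : (v + M v) + M (v + M v) + M (M (v + M v)) = 0 := by
  have h1 := D.m3 v
  simp only [map_add]
  rw [h1]
  calc v + M v + (M v + M (M v)) + (M (M v) + v) = (v + v) + (M v + M v) + (M (M v) + M (M v)) := by abel
    _ = 0 := by rw [add_self v, add_self (M v), add_self (M (M v)), zero_add, zero_add]

/-- a second orbit of vectors of trace 0, or a second fixed singular vector -/
theorem second {a : V} (ha : a + M a + M (M a) = 0) (h0 : a ≠ 0) :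
    (∃ c, c + M c + M (M c) = 0 ∧ c ≠ 0 ∧ c ≠ a ∧ c ≠ M a ∧ c ≠ M (M a)) ∨
      ∃ s', q s' = 0 ∧ M s' = s' ∧ s' ≠ 0 ∧ s' ≠ s ∧ B s s' = 0 ∧ B n s' = 0 := by
  by_cases hc : ∃ c, c + M c + M (M c) = 0 ∧ c ≠ 0 ∧ c ≠ a ∧ c ≠ M a ∧ c ≠ M (M a)
  · exact Or.inl hc
  right
  have all : ∀ c, c + M c + M (M c) = 0 → c = 0 ∨ c = a ∨ c = M a ∨ c = M (M a) := by
    intro c h1
    by_contra hcon
    push Not at hcon
    exact hc ⟨c, h1, hcon.1, hcon.2.1, hcon.2.2.1, hcon.2.2.2⟩
  have e2 : M (M a) = a + M a := by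
    have h1 : M (M a) + (a + M a) = 0 := by rw [← ha]; abel
    exact eq_of_add_eq_zero h1
  -- `B a (M a) = 1`
  have h1 : B a (M a) = 1 := by
    refine (z2 _).resolve_left fun h2 => h0 (nondeg fun v => ?_)
    have h3 : B a v = B a (v + (v + M v + M (M v))) + B a (v + M v + M (M v)) := by
      rw [← B_add_right, add_assoc, add_self, add_zero]
    have h4 : B a (v + M v + M (M v)) = 0 := by
      rw [B_comm]
      exact perp D.mem (D.fix_tr v) ha
    have h5 : v + (v + M v + M (M v)) = M v + M (M v) := by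
      calc v + (v + M v + M (M v)) = (v + v) + (M v + M (M v)) := by abel
        _ = _ := by rw [add_self, zero_add]
    rw [h3, h4, add_zero, h5]
    rcases all _ (D.tr_add (M v)) with h6 | h6 | h6 | h6 <;> rw [h6]
    · exact B_zero_right a
    · exact B_self a
    · exact h2
    · rw [e2, B_add_right, B_self, h2, add_zero]
  -- a vector `y`
  obtain ⟨y, hya, hyM, hys, hyn, hy⟩ : ∃ y, B y a = 0 ∧ B y (M a) = 0 ∧ B y s = 0 ∧ B y n = 0 ∧
      y ∉ Submodule.span (ZMod 2) ({s, n} : Set V) := by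
    let f : V →ₗ[ZMod 2] (Fin 4 → ZMod 2) :=
      { toFun := fun y => ![B y a, B y (M a), B y s, B y n]
        map_add' := fun y z => by
          funext i
          fin_cases i
          · exact B_add_left _ _ _
          · exact B_add_left _ _ _
          · exact B_add_left _ _ _
          · exact B_add_left _ _ _
        map_smul' := fun c y => by
          funext i
          fin_cases i
          · exact B_smul_left _ _ _
          · exact B_smul_left _ _ _
          · exact B_smul_left _ _ _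
          · exact B_smul_left _ _ _ }
    have h2 := LinearMap.finrank_range_add_finrank_ker f
    have h3 : Module.finrank (ZMod 2) (LinearMap.range f) ≤ 4 := by
      have := Submodule.finrank_le (LinearMap.range f)
      rwa [Module.finrank_fintype_fun_eq_card, Fintype.card_fin] at this
    rw [finrank_V] at h2
    by_contra hcon
    push Not at hcon
    have h4 : LinearMap.ker f ≤ Submodule.span (ZMod 2) ({s, n} : Set V) := by
      intro y hy
      have h5 : ![B y a, B y (M a), B y s, B y n] = 0 := hy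
      exact hcon y (congrFun h5 0) (congrFun h5 1) (congrFun h5 2) (congrFun h5 3)
    have h5 := Submodule.finrank_mono h4
    have h6 : Module.finrank (ZMod 2) (Submodule.span (ZMod 2) ({s, n} : Set V)) ≤ 2 := by
      classical
      have h7 : ({s, n} : Set V) = (({s, n} : Finset V) : Set V) := by simp
      rw [h7]
      exact (finrank_span_finset_le_card _).trans Finset.card_le_two
    omega
  have y0 : y ≠ 0 := fun h => hy (h ▸ zero_mem _)
  have ys : y ≠ s := fun h => hy (h ▸ Submodule.subset_span (by simp))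
  have yn : y ≠ n := fun h => hy (h ▸ Submodule.subset_span (by simp))
  have ysn : y ≠ s + n := fun h => hy (h ▸ add_mem (Submodule.subset_span (by simp)) (Submodule.subset_span (by simp)))
  -- `M y = y`
  have My : M y = y := by
    have h2 : B (M y) a = 0 := by
      have h3 := O8_B D.mem y (M (M a))
      rw [D.m3] at h3
      rw [h3, e2, B_add_right, hya, hyM, add_zero]
    have h3 : B (M y) (M a) = 0 := by rw [O8_B D.mem]; exact hya
    have h4 : B (y + M y) a = 0 := by rw [B_add_left, hya, h2, add_zero]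
    have h5 : B (y + M y) (M a) = 0 := by rw [B_add_left, hyM, h3, add_zero]
    have h6 : y + M y = 0 := by
      rcases all _ (D.tr_add y) with h6 | h6 | h6 | h6
      · exact h6
      · rw [h6, h1] at h5; exact absurd h5 (by decide)
      · rw [h6, B_comm, h1] at h4; exact absurd h4 (by decide)
      · rw [h6, e2, B_add_left, B_self, B_comm (M a) a, h1] at h4; exact absurd h4 (by decide)
    exact (eq_of_add_eq_zero h6).symm
  rcases z2 (q y) with hq | hq
  · exact ⟨y, hq, My, y0, ys, by rw [B_comm]; exact hys, by rw [B_comm]; exact hyn⟩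
  · refine ⟨y + n, ?_, ?_, ?_, ?_, ?_, ?_⟩
    · rw [q_add, hq, D.qn, hyn]; decide
    · rw [map_add, My, D.mn]
    · intro h; exact yn (eq_of_add_eq_zero h)
    · intro h
      apply ysn
      rw [← h, add_assoc, add_self, add_zero]
    · rw [B_add_right, B_comm s y, hys, D.sn, add_zero]
    · rw [B_add_right, B_comm n y, hyn, B_self, add_zero]

/-- the triples -/
theorem tri {w : Om} (hw : (w : V ≃ₗ[ZMod 2] V) = X s n) {s' a : V} (qs' : q s' = 0) (ms' : M s' = s')
    (s0' : s' ≠ 0) (hss : B s s' = 0) (hns : B n s' = 0) (ha : a + M a + M (M a) = 0) (h0 : a ≠ 0) :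
    Tri (MulAut.conj w) (cj ⟨M, D.mem⟩) (⟨X s' a, X_mem s' a⟩ : Om) := by
  have hsa : B s' a = 0 := perp D.mem ms' ha
  have hMa := M_ne ha h0
  have hca : ∀ c : V, cj ⟨M, D.mem⟩ (⟨X s' c, X_mem s' c⟩ : Om) = ⟨X s' (M c), X_mem s' (M c)⟩ := by
    intro c
    apply Subtype.ext
    rw [cj_coe]
    show M * X s' c * M⁻¹ = X s' (M c)
    rw [X_conj D.mem, ms']
  refine ⟨?_, ?_, ?_, ?_⟩
  · apply Subtype.ext
    show (w : V ≃ₗ[ZMod 2] V) * X s' a * (w : V ≃ₗ[ZMod 2] V)⁻¹ = X s' a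
    have h1 : X s n s' = s' := by
      rw [X_apply' D.qs D.sn, hss, hns]
      simp
    have h2 : X s n a = a := by
      rw [X_apply' D.qs D.sn, perp D.mem D.ms ha, perp D.mem D.mn ha]
      simp
    rw [hw, X_conj (X_mem_O8 s n), h1, h2]
  · exact Subtype.ext (X_mul_self s' a)
  · intro h1
    have h2 : X s' a = 1 := congrArg Subtype.val h1
    refine X_ne_one qs' s0' hsa h0 ?_ h2
    rintro rfl
    exact hMa ms'
  · rw [hca, hca]
    apply Subtype.ext
    show X s' a * X s' (M a) * X s' (M (M a)) = 1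
    have h1 : B s' (M a) = 0 := perp D.mem ms' (by
      have := congrArg M ha
      rw [map_add, map_add, map_zero] at this
      exact this)
    have h2 : B s' (M (M a)) = 0 := perp D.mem ms' (by
      have := congrArg M (congrArg M ha)
      rw [map_add, map_add, map_add, map_add, map_zero, map_zero] at this
      exact this)
    rw [X_mul qs' hsa h1, X_mul qs' (by rw [B_add_right, hsa, h1, add_zero]) h2, ha, X_zero_right]

/-- **Two triples.** -/
theorem ok {w : Om} (hw : (w : V ≃ₗ[ZMod 2] V) = X s n) (hM : ∃ v, M v ≠ v) :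
    Ok (MulAut.conj w) (cj ⟨M, D.mem⟩) := by
  right
  obtain ⟨v, hv⟩ := hM
  have ha := D.tr_add v
  have h0 : v + M v ≠ 0 := fun h => hv (eq_of_add_eq_zero h).symm
  generalize v + M v = a at ha h0
  have hMa := M_ne ha h0
  have hca : ∀ c : V, cj ⟨M, D.mem⟩ (⟨X s c, X_mem s c⟩ : Om) = ⟨X s (M c), X_mem s (M c)⟩ := by
    intro c
    apply Subtype.ext
    rw [cj_coe]
    show M * X s c * M⁻¹ = X s (M c)
    rw [X_conj D.mem, D.ms]
  have hsn : B n s = 0 := by rw [B_comm]; exact D.sn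
  have t1 := D.tri hw D.qs D.ms D.s0 (B_self s) hsn ha h0
  have trM : ∀ {c : V}, c + M c + M (M c) = 0 → M c + M (M c) + M (M (M c)) = 0 := by
    intro c hc
    have := congrArg M hc
    rw [map_add, map_add, map_zero] at this
    exact this
  rcases D.second ha h0 with ⟨c, hc, c0, c1, c2, c3⟩ | ⟨s', q', m', n0', n1', b1, b2⟩
  · have t2 := D.tri hw D.qs D.ms D.s0 (B_self s) hsn hc c0
    have key : ∀ d, d + M d + M (M d) = 0 → c ≠ d → (⟨X s c, X_mem s c⟩ : Om) ≠ ⟨X s d, X_mem s d⟩ := by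
      intro d hd hcd h
      have h1 : X s c = X s d := congrArg Subtype.val h
      have h2 : X s (c + d) = 1 := by
        rw [← X_mul D.qs (perp D.mem D.ms hc) (perp D.mem D.ms hd), h1, X_mul_self]
      have h3 : (c + d) + M (c + d) + M (M (c + d)) = 0 := by
        simp only [map_add]
        calc c + d + (M c + M d) + (M (M c) + M (M d)) = (c + M c + M (M c)) + (d + M d + M (M d)) := by abel
          _ = 0 := by rw [hc, hd, add_zero]
      refine X_ne_one D.qs D.s0 (perp D.mem D.ms h3) (fun h4 => hcd (eq_of_add_eq_zero h4)) ?_ h2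
      intro h4
      have h5 : c + d ≠ 0 := fun h6 => hcd (eq_of_add_eq_zero h6)
      apply M_ne h3 h5
      rw [h4]; exact D.ms
    refine ⟨_, _, t1, t2, key a ha c1, ?_, ?_⟩
    · rw [hca]
      exact key _ (trM ha) c2
    · rw [hca, hca]
      exact key _ (trM (trM ha)) c3
  · have t2 := D.tri hw q' m' n0' b1 b2 ha h0
    have key : ∀ d, d + M d + M (M d) = 0 → (⟨X s' a, X_mem s' a⟩ : Om) ≠ ⟨X s d, X_mem s d⟩ := by
      intro d hd h
      exact X_ne D.qs q' D.s0 n0' n1' (perp D.mem D.ms hd) (perp D.mem m' ha) D.ms m' hMa (congrArg Subtype.val h)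
    refine ⟨_, _, t1, t2, key a ha, ?_, ?_⟩
    · rw [hca]
      exact key _ (trM ha)
    · rw [hca, hca]
      exact key _ (trM (trM ha))

end Dat

/-- an isometry commuting with `X s n` -/
theorem fix_s {M : V ≃ₗ[ZMod 2] V} (hM : M ∈ O8) {s n : V} (qs : q s = 0) (s0 : s ≠ 0) (sn : B s n = 0) (qn : q n = 1)
    (he : X (M s) (M n) = X s n) : M s = s := by
  have hn0 : n ≠ 0 := by
    rintro rfl
    rw [q_zero] at qn
    exact absurd qn (by decide)
  have hsn : s ≠ n := by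
    rintro rfl
    rw [qs] at qn
    exact absurd qn (by decide)
  obtain ⟨v, e1, e2⟩ := exists_B s0 hn0 hsn 0 1
  have h1 : X (M s) (M n) v = X s n v := by rw [he]
  have g1 : q (M s) = 0 := by rw [O8_q hM, qs]
  have g2 : B (M s) (M n) = 0 := by rw [O8_B hM, sn]
  have g3 : q (M n) = 1 := by rw [O8_q hM, qn]
  rw [X_apply' g1 g2, X_apply' qs sn, e1, e2, g3, qn, zero_smul, mul_zero, zero_smul, one_smul, add_zero, add_zero,
    one_mul, add_assoc, add_assoc] at h1
  have h2 := add_left_cancel h1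
  rcases z2 (B (M s) v) with f1 | f1 <;> rcases z2 (B (M n) v) with f2 | f2 <;> rw [f1, f2] at h2
  · exfalso
    rw [zero_smul, zero_smul, add_zero, add_zero] at h2
    exact s0 h2.symm
  · rwa [zero_smul, zero_smul, one_smul, add_zero, zero_add] at h2
  · exfalso
    rw [one_smul, one_smul, zero_smul, zero_add] at h2
    have h4 : q (M n + M s) = 1 := by rw [q_add, g3, g1, B_comm, g2]; decide
    rw [h2, qs] at h4
    exact absurd h4 (by decide)
  · exfalso
    rw [one_smul, one_smul, add_self, add_zero] at h2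
    rw [h2, qs] at g3
    exact absurd g3 (by decide)

theorem fix_n {M : V ≃ₗ[ZMod 2] V} (hM : M ∈ O8) (m3 : ∀ v, M (M (M v)) = v) {s n : V} (qs : q s = 0) (s0 : s ≠ 0)
    (sn : B s n = 0) (qn : q n = 1) (he : X (M s) (M n) = X s n) : M n = n := by
  have ms := fix_s hM qs s0 sn qn he
  have hn0 : n ≠ 0 := by
    rintro rfl
    rw [q_zero] at qn
    exact absurd qn (by decide)
  have hsn : s ≠ n := by
    rintro rfl
    rw [qs] at qn
    exact absurd qn (by decide)
  obtain ⟨v, e1, e2⟩ := exists_B s0 hn0 hsn 1 0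
  rw [ms] at he
  have h1 : X s (M n) v = X s n v := by rw [he]
  have g2 : B s (M n) = 0 := by
    have := O8_B hM s n
    rw [ms] at this
    rw [this, sn]
  have g3 : q (M n) = 1 := by rw [O8_q hM, qn]
  rw [X_apply' qs g2, X_apply' qs sn, e1, e2, g3, qn, one_mul, one_smul, one_smul, one_smul, zero_smul, add_zero]
    at h1
  have h2 : v + (M n + B (M n) v • s) = v + n := by
    have h3 : v + (M n + B (M n) v • s) + s = v + n + s := by rw [← h1]; abel
    exact add_right_cancel h3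
  have h3 := add_left_cancel h2
  rcases z2 (B (M n) v) with f | f
  · rw [f, zero_smul, add_zero] at h3
    exact h3
  · exfalso
    rw [f, one_smul] at h3
    have h4 : M n = n + s := by
      calc M n = M n + (s + s) := by rw [add_self, add_zero]
        _ = (M n + s) + s := by abel
        _ = n + s := by rw [h3]
    have h5 : M (M n) = n := by rw [h4, map_add, h4, ms, add_assoc, add_self, add_zero]
    have h6 := m3 n
    rw [h5, h4] at h6
    exact s0 (add_eq_left.1 h6)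

end Lin

/-- **The involutions of type `c₂` are dead.** -/
theorem dead_c2 (w : Om) (hc : IsC2 (w : V ≃ₗ[ZMod 2] V)) : Dead w := by
  have : Finite Om := inferInstance
  refine dead_of_ok center_Om fun β h3 h1 hw => ?_
  obtain ⟨⟨M, hM⟩, rfl⟩ := mem_range_of_c2 hc (by rw [hw]; exact hc)
  obtain ⟨s, n, qs, s0, sn, qn, hX⟩ := hc
  have m3' : (⟨M, hM⟩ : O8) * ⟨M, hM⟩ * ⟨M, hM⟩ = 1 := by
    apply Cfsg.Agent.StdO8.Frame.Ctx.cj_injective
    rw [map_mul, map_mul, map_one]
    exact h3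
  have m3 : ∀ v, M (M (M v)) = v := by
    intro v
    have h4 := congrArg (fun g : O8 => (g : V ≃ₗ[ZMod 2] V) v) m3'
    exact h4
  have he : X (M s) (M n) = X s n := by
    have h4 := congrArg (Subtype.val : Om → (V ≃ₗ[ZMod 2] V)) hw
    rw [cj_coe, hX] at h4
    rw [← X_conj hM]
    exact h4
  have D : Dat M s n := ⟨hM, m3, fix_s hM qs s0 sn qn he, fix_n hM m3 qs s0 sn qn he, qs, s0, sn, qn⟩
  refine D.ok hX ?_
  by_contra hcon
  push Not at hcon
  apply h1
  have h4 : (⟨M, hM⟩ : O8) = 1 := Subtype.ext (LinearEquiv.ext hcon)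
  rw [h4, map_one]

end Cfsg.Agent.OddHalf.NI3.Ex4.O8.CTwo

namespace Cfsg.Agent.OddHalf.NI3.Ex4.O8

/-- (P2) -/
theorem dead_c2 {w : Cfsg.Agent.StdO8.Model.Om}
    (hc : Cfsg.Agent.StdO8.Aut.IsC2 (w : Cfsg.Agent.StdO8.Model.V ≃ₗ[ZMod 2] Cfsg.Agent.StdO8.Model.V)) : Dead w :=
  CTwo.dead_c2 w hc

end Cfsg.Agent.OddHalf.NI3.Ex4.O8

end

-- merged: Cfsg.Agent.OddHalf.NI3.Ex4.OEight.Root
section

/-!
# (EX4), the row `Ω₈⁺(2)`: the root involutions

`dead_root` : a root element of `Ω₈⁺(2)` is `Dead`.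
-/

set_option autoImplicit false
set_option linter.style.haveILetI false

namespace Cfsg.Agent.OddHalf.NI3.Ex4.O8

open Subgroup Cfsg Cfsg.Agent.OddHalf.NI3.Ex4
open Cfsg.Agent.StdO8.Model Cfsg.Agent.StdO8.Bas Cfsg.Agent.StdO8.Root Cfsg.Agent.StdO8.Aut Cfsg.Agent.StdO8.EvenLin

universe u

/-- a normal 2-subgroup of `C(z)` lies in `O₂(C(z))` -/
theorem le_OO2_of {X : Type u} [Group X] {z : X} {R : Subgroup X} (h1 : ∀ r ∈ R, r * z = z * r)
    (h2 : IsPGroup 2 ↥R) (h3 : ∀ g, g * z = z * g → ∀ r ∈ R, g * r * g⁻¹ ∈ R) : R ≤ OO2 z := by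
  intro r hr
  have hrc : r ∈ centralizer ({z} : Set X) := mem_centralizer_singleton_iff.2 (h1 r hr)
  have hn : (R.subgroupOf (centralizer ({z} : Set X))).Normal := by
    refine ⟨fun n hn g => ?_⟩
    exact h3 g (mem_centralizer_singleton_iff.1 g.2) n hn
  have h4 : IsPGroup 2 ↥(R.subgroupOf (centralizer ({z} : Set X))) :=
    h2.comap_of_injective _ (Subgroup.subtype_injective _)
  exact ⟨⟨r, hrc⟩, Lib.Cores.le_pCore hn h4 hr, rfl⟩

theorem li_two {u w : V} (h1 : u ≠ 0) (h2 : w ≠ 0) (h3 : u ≠ w) : LinearIndependent (ZMod 2) ![u, w] := by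
  rw [Fintype.linearIndependent_iff]
  intro c hc
  rw [Fin.sum_univ_two] at hc
  have hc' : c 0 • u + c 1 • w = 0 := hc
  have h4 : c 0 = 0 ∧ c 1 = 0 := by
    rcases z2 (c 0) with e | e <;> rcases z2 (c 1) with f | f <;> rw [e, f] at hc'
    · exact ⟨e, f⟩
    · rw [zero_smul, one_smul, zero_add] at hc'; exact absurd hc' h2
    · rw [zero_smul, one_smul, add_zero] at hc'; exact absurd hc' h1
    · rw [one_smul, one_smul] at hc'; exact absurd (eq_of_add_eq_zero hc') h3
  intro i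
  fin_cases i
  · exact h4.1
  · exact h4.2

/-- the root elements are conjugate -/
theorem conj_root {c : V ≃ₗ[ZMod 2] V} (hc : IsRoot c) : ∃ M ∈ O8, M * xb 0 1 * M⁻¹ = c := by
  obtain ⟨u, w, h1, h2, h3, h4, h5, h6, rfl⟩ := hc
  obtain ⟨M, hM, h⟩ := exists_isometry (x := ![bv 0, bv 1]) (y := ![u, w])
    (li_two (bv_ne 0) (bv_ne 1) (fun h => by
      have h7 : B (bv 0) (bv 4) = B (bv 1) (bv 4) := by rw [h]
      rw [B_bv, B_bv] at h7
      exact absurd h7 (by decide))) (li_two h4 h5 h6) (by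
      intro i
      fin_cases i
      · exact (q_bv 0).trans h1.symm
      · exact (q_bv 1).trans h2.symm) (by
      intro i j
      fin_cases i <;> fin_cases j
      · exact (B_self _).trans (B_self _).symm
      · exact (B_ok (by decide)).trans h3.symm
      · exact (B_ok (by decide)).trans ((B_comm _ _).trans h3).symm
      · exact (B_self _).trans (B_self _).symm)
  refine ⟨M, hM, ?_⟩
  have e0 : M (bv 0) = u := h 0
  have e1 : M (bv 1) = w := h 1
  rw [xb_conj hM, e0, e1]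

/-- `⟨bv 0, bv 1⟩^⊥` -/
def Perp (v : V) : Prop := B (bv 0) v = 0 ∧ B (bv 1) v = 0

/-- `⟨bv 0, bv 1⟩` -/
def Line (v : V) : Prop := v = 0 ∨ v = bv 0 ∨ v = bv 1 ∨ v = bv 0 + bv 1

theorem Line.perp {v : V} (h : Line v) : Perp v := by
  have h01 : B (bv 0) (bv 1) = 0 := B_ok (by decide)
  have h10 : B (bv 1) (bv 0) = 0 := B_ok (by decide)
  rcases h with rfl | rfl | rfl | rfl
  · exact ⟨B_zero_right _, B_zero_right _⟩
  · exact ⟨B_self _, h10⟩
  · exact ⟨h01, B_self _⟩
  · exact ⟨by rw [B_add_right, B_self, h01, add_zero], by rw [B_add_right, B_self, h10, add_zero]⟩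

theorem Line.add {v w : V} (h : Line v) (h' : Line w) : Line (v + w) := by
  have e : ∀ a b : V, a + b + a = b := fun a b => by rw [add_comm a b, add_assoc, add_self, add_zero]
  rcases h with rfl | rfl | rfl | rfl <;> rcases h' with rfl | rfl | rfl | rfl
  · exact Or.inl (add_zero _)
  · rw [zero_add]; exact Or.inr (Or.inl rfl)
  · rw [zero_add]; exact Or.inr (Or.inr (Or.inl rfl))
  · rw [zero_add]; exact Or.inr (Or.inr (Or.inr rfl))
  · rw [add_zero]; exact Or.inr (Or.inl rfl)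
  · exact Or.inl (add_self _)
  · exact Or.inr (Or.inr (Or.inr rfl))
  · rw [← add_assoc, add_self, zero_add]; exact Or.inr (Or.inr (Or.inl rfl))
  · rw [add_zero]; exact Or.inr (Or.inr (Or.inl rfl))
  · rw [add_comm]; exact Or.inr (Or.inr (Or.inr rfl))
  · exact Or.inl (add_self _)
  · rw [add_comm (bv 0) (bv 1), ← add_assoc, add_self, zero_add]; exact Or.inr (Or.inl rfl)
  · rw [add_zero]; exact Or.inr (Or.inr (Or.inr rfl))
  · rw [e]; exact Or.inr (Or.inr (Or.inl rfl))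
  · rw [add_assoc, add_self, add_zero]; exact Or.inr (Or.inl rfl)
  · exact Or.inl (add_self _)

theorem Perp.add {v w : V} (h : Perp v) (h' : Perp w) : Perp (v + w) :=
  ⟨by rw [B_add_right, h.1, h'.1, add_zero], by rw [B_add_right, h.2, h'.2, add_zero]⟩

theorem b04 : B (bv 0) (bv 4) = 1 := by rw [B_bv]; decide
theorem b05 : B (bv 0) (bv 5) = 0 := by rw [B_bv]; decide
theorem b14 : B (bv 1) (bv 4) = 0 := by rw [B_bv]; decide
theorem b15 : B (bv 1) (bv 5) = 1 := by rw [B_bv]; decide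
theorem b01 : B (bv 0) (bv 1) = 0 := by rw [B_bv]; decide
theorem b45 : B (bv 4) (bv 5) = 0 := by rw [B_bv]; decide

theorem perp_sub (y : V) : Perp (y + (B (bv 0) y • bv 4 + B (bv 1) y • bv 5)) := by
  constructor
  · rw [B_add_right, B_add_right, B_smul_right, B_smul_right, b04, b05]
    generalize B (bv 0) y = a
    generalize B (bv 1) y = b
    revert a b; decide
  · rw [B_add_right, B_add_right, B_smul_right, B_smul_right, b14, b15]
    generalize B (bv 0) y = a
    generalize B (bv 1) y = b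
    revert a b; decide

/-- the double perp -/
theorem line_of {v : V} (h : ∀ y, Perp y → B v y = 0) : Line v := by
  have h4 : ∀ y, B (v + (B v (bv 4) • bv 0 + B v (bv 5) • bv 1)) y = 0 := by
    intro y
    have h5 := h _ (perp_sub y)
    rw [B_add_right, B_add_right, B_smul_right, B_smul_right] at h5
    rw [B_add_left, B_add_left, B_smul_left, B_smul_left]
    revert h5
    generalize B (bv 0) y = a
    generalize B (bv 1) y = b
    generalize B v (bv 4) = c
    generalize B v (bv 5) = d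
    generalize B v y = e
    revert a b c d e; decide +kernel
  have h6 := eq_of_add_eq_zero (nondeg h4)
  rw [h6]
  rcases z2 (B v (bv 4)) with a | a <;> rcases z2 (B v (bv 5)) with b | b <;> rw [a, b] <;> simp only [Line, _root_.Fin.isValue, _root_.zero_smul, _root_.add_zero, _root_.true_or, _root_.one_smul, _root_.zero_add, _root_.right_eq_add, _root_.or_true, _root_.left_eq_add, _root_.add_eq_left, _root_.add_eq_right]

/-! ### The unipotent radical of the stabiliser of the line -/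

/-- `O₂(C(z))`, `z = xb 0 1` -/
def RR : Subgroup Om where
  carrier := {g | (∀ v, Line v → (g : V ≃ₗ[ZMod 2] V) v = v) ∧ (∀ v, Perp v → Line ((g : V ≃ₗ[ZMod 2] V) v + v)) ∧
    ∀ v, Perp ((g : V ≃ₗ[ZMod 2] V) v + v)}
  one_mem' := by
    refine ⟨fun v _ => rfl, fun v _ => ?_, fun v => ?_⟩
    · change Line (v + v)
      rw [add_self]; exact Or.inl rfl
    · change Perp (v + v)
      rw [add_self]; exact ⟨B_zero_right _, B_zero_right _⟩
  mul_mem' := by
    rintro a b ⟨a1, a2, a3⟩ ⟨b1, b2, b3⟩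
    have e : ∀ v, (a : V ≃ₗ[ZMod 2] V) ((b : V ≃ₗ[ZMod 2] V) v) + v =
        ((a : V ≃ₗ[ZMod 2] V) ((b : V ≃ₗ[ZMod 2] V) v) + (b : V ≃ₗ[ZMod 2] V) v) + ((b : V ≃ₗ[ZMod 2] V) v + v) := by
      intro v
      rw [add_assoc, ← add_assoc ((b : V ≃ₗ[ZMod 2] V) v), add_self, zero_add]
    refine ⟨fun v hv => ?_, fun v hv => ?_, fun v => ?_⟩
    · change (a : V ≃ₗ[ZMod 2] V) ((b : V ≃ₗ[ZMod 2] V) v) = v
      rw [b1 v hv, a1 v hv]
    · change Line ((a : V ≃ₗ[ZMod 2] V) ((b : V ≃ₗ[ZMod 2] V) v) + v)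
      rw [e]
      have h1 : Perp ((b : V ≃ₗ[ZMod 2] V) v) := by
        have h2 := (b2 v hv).perp.add hv
        rwa [add_assoc, add_self, add_zero] at h2
      exact (a2 _ h1).add (b2 v hv)
    · change Perp ((a : V ≃ₗ[ZMod 2] V) ((b : V ≃ₗ[ZMod 2] V) v) + v)
      rw [e]
      exact (a3 _).add (b3 v)
  inv_mem' := by
    rintro a ⟨a1, a2, a3⟩
    have e : ∀ v, (a : V ≃ₗ[ZMod 2] V) ((a : V ≃ₗ[ZMod 2] V)⁻¹ v) = v := fun v => by
      rw [← LinearEquiv.mul_apply, mul_inv_cancel]; rfl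
    have e1 : ∀ v, Line v → (a : V ≃ₗ[ZMod 2] V)⁻¹ v = v := by
      intro v hv
      apply (a : V ≃ₗ[ZMod 2] V).injective
      rw [e, a1 v hv]
    have e2 : ∀ v, Perp v → (a : V ≃ₗ[ZMod 2] V)⁻¹ v = v + ((a : V ≃ₗ[ZMod 2] V) v + v) := by
      intro v hv
      apply (a : V ≃ₗ[ZMod 2] V).injective
      rw [e, map_add, a1 _ (a2 v hv), ← add_assoc, add_self, zero_add]
    refine ⟨e1, fun v hv => ?_, fun v => ?_⟩
    · change Line ((a : V ≃ₗ[ZMod 2] V)⁻¹ v + v)
      rw [e2 v hv, add_comm v, add_assoc, add_self, add_zero]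
      exact a2 v hv
    · change Perp ((a : V ≃ₗ[ZMod 2] V)⁻¹ v + v)
      have h1 := a3 ((a : V ≃ₗ[ZMod 2] V)⁻¹ v)
      rw [e, add_comm] at h1
      exact h1

theorem mem_RR {g : Om} : g ∈ RR ↔ (∀ v, Line v → (g : V ≃ₗ[ZMod 2] V) v = v) ∧
    (∀ v, Perp v → Line ((g : V ≃ₗ[ZMod 2] V) v + v)) ∧ ∀ v, Perp ((g : V ≃ₗ[ZMod 2] V) v + v) := Iff.rfl

theorem RR_two : IsPGroup 2 ↥RR := by
  rintro ⟨g, hg⟩
  refine ⟨2, Subtype.ext (Subtype.ext ?_)⟩
  obtain ⟨h1, h2, h3⟩ := mem_RR.1 hg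
  have e : ((((⟨g, hg⟩ : ↥RR) ^ 2 ^ 2 : ↥RR) : Om) : V ≃ₗ[ZMod 2] V) =
      ((g : V ≃ₗ[ZMod 2] V) * g) * (g * g) := by
    have e1 : (⟨g, hg⟩ : ↥RR) ^ 2 ^ 2 = (⟨g, hg⟩ * ⟨g, hg⟩) * (⟨g, hg⟩ * ⟨g, hg⟩) := by
      rw [show (2 : ℕ) ^ 2 = 4 by norm_num, pow_succ, pow_succ, pow_succ, pow_one]
      group
    rw [e1]; rfl
  rw [e]
  -- `g² v = v + n₂`
  have key : ∀ v, ∃ n, Line n ∧ (g : V ≃ₗ[ZMod 2] V) ((g : V ≃ₗ[ZMod 2] V) v) = v + n := by
    intro v
    refine ⟨_, h2 _ (h3 v), ?_⟩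
    have e2 : (g : V ≃ₗ[ZMod 2] V) v = v + ((g : V ≃ₗ[ZMod 2] V) v + v) := by
      rw [add_comm _ v, ← add_assoc, add_self, zero_add]
    have e3 : (g : V ≃ₗ[ZMod 2] V) ((g : V ≃ₗ[ZMod 2] V) v) =
        (g : V ≃ₗ[ZMod 2] V) v + (g : V ≃ₗ[ZMod 2] V) ((g : V ≃ₗ[ZMod 2] V) v + v) := by
      conv_lhs => rw [e2]
      rw [map_add]
    rw [e3]
    generalize (g : V ≃ₗ[ZMod 2] V) ((g : V ≃ₗ[ZMod 2] V) v + v) = m
    generalize (g : V ≃ₗ[ZMod 2] V) v = k
    have e4 : v + (m + (k + v)) = (v + v) + (k + m) := by abel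
    rw [e4, add_self, zero_add]
  refine LinearEquiv.ext fun v => ?_
  change (g : V ≃ₗ[ZMod 2] V) ((g : V ≃ₗ[ZMod 2] V) ((g : V ≃ₗ[ZMod 2] V) ((g : V ≃ₗ[ZMod 2] V) v))) = v
  obtain ⟨n, hn, e2⟩ := key v
  rw [e2, map_add, map_add, e2, h1 n hn, h1 n hn, add_assoc, add_self, add_zero]

/-- the standard root element -/
noncomputable def zc : Om := ⟨xb 0 1, xb_mem 0 1⟩

theorem line_iff {g : V ≃ₗ[ZMod 2] V} (hg : g ∈ O8) (h : g * xb 0 1 = xb 0 1 * g) {v : V} (hv : Line v) :
    Line (g v) := by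
  have h1 := mem_of_commute hg (q_bv 0) (q_bv 1) b01 (bv_ne 0) (bv_ne 1) (fun h => by
    have h7 : B (bv 0) (bv 4) = B (bv 1) (bv 4) := by rw [h]
    rw [b04, b14] at h7
    exact absurd h7 (by decide)) h
  have h2 : Line (g (bv 0)) := by
    rcases h1.1 with e | e | e <;> rw [e]
    · exact Or.inr (Or.inl rfl)
    · exact Or.inr (Or.inr (Or.inl rfl))
    · exact Or.inr (Or.inr (Or.inr rfl))
  have h3 : Line (g (bv 1)) := by
    rcases h1.2 with e | e | e <;> rw [e]
    · exact Or.inr (Or.inl rfl)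
    · exact Or.inr (Or.inr (Or.inl rfl))
    · exact Or.inr (Or.inr (Or.inr rfl))
  rcases hv with rfl | rfl | rfl | rfl
  · rw [map_zero]; exact Or.inl rfl
  · exact h2
  · exact h3
  · rw [map_add]; exact h2.add h3

theorem inv_comm {g : V ≃ₗ[ZMod 2] V} (h : g * xb 0 1 = xb 0 1 * g) : g⁻¹ * xb 0 1 = xb 0 1 * g⁻¹ := by
  calc g⁻¹ * xb 0 1 = g⁻¹ * (xb 0 1 * g) * g⁻¹ := by group
    _ = g⁻¹ * (g * xb 0 1) * g⁻¹ := by rw [h]
    _ = xb 0 1 * g⁻¹ := by group

theorem perp_iff {g : V ≃ₗ[ZMod 2] V} (hg : g ∈ O8) (h : g * xb 0 1 = xb 0 1 * g) {v : V} (hv : Perp v) :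
    Perp (g v) := by
  have hg' : g⁻¹ ∈ O8 := inv_mem hg
  have key : ∀ u, Line u → B u (g v) = 0 := by
    intro u hu
    have h1 := line_iff hg' (inv_comm h) hu
    have h2 : B u (g v) = B (g⁻¹ u) v := by
      have h3 := O8_B hg (g⁻¹ u) v
      have h4 : g (g⁻¹ u) = u := by rw [← LinearEquiv.mul_apply, mul_inv_cancel]; rfl
      rw [h4] at h3
      exact h3
    rw [h2]
    generalize g⁻¹ u = u' at h1
    rcases h1 with rfl | rfl | rfl | rfl
    · exact B_zero_left _
    · exact hv.1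
    · exact hv.2
    · rw [B_add_left, hv.1, hv.2, add_zero]
  exact ⟨key _ (Or.inr (Or.inl rfl)), key _ (Or.inr (Or.inr (Or.inl rfl)))⟩

theorem RR_comm {g : Om} (hg : g ∈ RR) : g * zc = zc * g := by
  apply Subtype.ext
  have h1 := (mem_RR.1 hg).1
  have h2 := xb_conj (Om_le g.2) 0 1
  rw [h1 _ (Or.inr (Or.inl rfl)), h1 _ (Or.inr (Or.inr (Or.inl rfl)))] at h2
  exact mul_inv_eq_iff_eq_mul.1 h2

theorem RR_conj {h : Om} (hh : h * zc = zc * h) {g : Om} (hg : g ∈ RR) : h * g * h⁻¹ ∈ RR := by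
  have hc : (h : V ≃ₗ[ZMod 2] V) * xb 0 1 = xb 0 1 * h := congrArg Subtype.val hh
  have hO := Om_le h.2
  have hO' : (h : V ≃ₗ[ZMod 2] V)⁻¹ ∈ O8 := inv_mem hO
  obtain ⟨g1, g2, g3⟩ := mem_RR.1 hg
  have e0 : ∀ v, (h : V ≃ₗ[ZMod 2] V) ((h : V ≃ₗ[ZMod 2] V)⁻¹ v) = v := fun v => by
    rw [← LinearEquiv.mul_apply, mul_inv_cancel]; rfl
  have e : ∀ v, ((h * g * h⁻¹ : Om) : V ≃ₗ[ZMod 2] V) v =
      (h : V ≃ₗ[ZMod 2] V) ((g : V ≃ₗ[ZMod 2] V) ((h : V ≃ₗ[ZMod 2] V)⁻¹ v)) := fun v => rfl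
  have e' : ∀ v, ((h * g * h⁻¹ : Om) : V ≃ₗ[ZMod 2] V) v + v =
      (h : V ≃ₗ[ZMod 2] V) ((g : V ≃ₗ[ZMod 2] V) ((h : V ≃ₗ[ZMod 2] V)⁻¹ v) + (h : V ≃ₗ[ZMod 2] V)⁻¹ v) := by
    intro v
    rw [e, map_add, e0]
  refine mem_RR.2 ⟨fun v hv => ?_, fun v hv => ?_, fun v => ?_⟩
  · rw [e, g1 _ (line_iff hO' (inv_comm hc) hv), e0]
  · rw [e']
    exact line_iff hO hc (g2 _ (perp_iff hO' (inv_comm hc) hv))
  · rw [e']
    exact perp_iff hO hc (g3 _)

theorem RR_le : RR ≤ OO2 zc :=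
  le_OO2_of (fun _ hr => RR_comm hr) RR_two (fun _ hg _ hr => RR_conj hg hr)

/-- the Siegel transformations of `O₂(C(z))` -/
theorem X_mem_RR {a y : V} (ha : a = bv 0 ∨ a = bv 1) (hy : Perp y) : (⟨X a y, X_mem a y⟩ : Om) ∈ RR := by
  have hq : q a = 0 := by rcases ha with rfl | rfl <;> exact q_bv _
  have hB : B a y = 0 := by rcases ha with rfl | rfl; exacts [hy.1, hy.2]
  have hL : Line a := by rcases ha with rfl | rfl; exacts [Or.inr (Or.inl rfl), Or.inr (Or.inr (Or.inl rfl))]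
  have hBa : ∀ v, Perp v → B a v = 0 := by
    intro v hv
    rcases ha with rfl | rfl; exacts [hv.1, hv.2]
  have hyL : ∀ v, Line v → B y v = 0 := by
    intro v hv
    rw [B_comm]
    rcases hv with rfl | rfl | rfl | rfl
    · exact B_zero_left _
    · exact hy.1
    · exact hy.2
    · rw [B_add_left, hy.1, hy.2, add_zero]
  have hsm : ∀ c : ZMod 2, Line (c • a) := by
    intro c
    rcases z2 c with h | h
    · rw [h, zero_smul]; exact Or.inl rfl
    · rw [h, one_smul]; exact hL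
  have e : ∀ v, X a y v + v = B a v • y + (B y v • a + (q y * B a v) • a) := by
    intro v
    rw [X_apply' hq hB]
    generalize B a v • y = s
    generalize B y v • a = t
    generalize (q y * B a v) • a = r
    have : v + s + t + r + v = (v + v) + (s + (t + r)) := by abel
    rw [this, add_self, zero_add]
  refine mem_RR.2 ⟨fun v hv => ?_, fun v hv => ?_, fun v => ?_⟩
  · change X a y v = v
    rw [X_apply' hq hB, hBa v hv.perp, hyL v hv]
    simp
  · change Line (X a y v + v)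
    rw [e, hBa v hv, zero_smul, zero_add, mul_zero, zero_smul, add_zero]
    exact hsm _
  · change Perp (X a y v + v)
    rw [e]
    refine Perp.add ?_ (Perp.add (hsm _).perp (hsm _).perp)
    rcases z2 (B a v) with h | h
    · rw [h, zero_smul]; exact ⟨B_zero_right _, B_zero_right _⟩
    · rw [h, one_smul]; exact hy

/-! ### The centralizer of `RR` -/

theorem eq_of_X {u w w' : V} (hu : q u = 0) (hw : B u w = 0) (hw' : B u w' = 0) (hu0 : u ≠ 0)
    (h : X u w = X u w') : w' = w ∨ w' = w + u := by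
  have h1 : X u (w + w') = 1 := by
    rw [← X_mul hu hw hw', ← h, X_mul_self]
  obtain ⟨v, hv⟩ := exists_one hu0
  have hB : B u (w + w') = 0 := by rw [B_add_right, hw, hw', add_zero]
  have h2 : X u (w + w') v = v := by rw [h1]; rfl
  rw [X_apply' hu hB, hv, one_smul, mul_one] at h2
  have h3 : (w + w') + (B (w + w') v • u + q (w + w') • u) = 0 := by
    have h4 : v + ((w + w') + (B (w + w') v • u + q (w + w') • u)) = v := by
      rw [← add_assoc, ← add_assoc]; exact h2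
    exact left_eq_add.1 h4.symm
  rw [← add_smul] at h3
  have h5 := eq_of_add_eq_zero h3
  rcases z2 (B (w + w') v + q (w + w')) with h6 | h6
  · rw [h6, zero_smul] at h5
    exact Or.inl (eq_of_add_eq_zero h5).symm
  · rw [h6, one_smul] at h5
    right
    rw [← h5, ← add_assoc, add_self, zero_add]

theorem cent_RR {g : Om} (h : ∀ r ∈ RR, g * r = r * g) : g = 1 ∨ g = zc := by
  have hg := Om_le g.2
  have hX : ∀ a y : V, (a = bv 0 ∨ a = bv 1) → Perp y →
      (g : V ≃ₗ[ZMod 2] V) * X a y = X a y * g := fun a y ha hy => congrArg Subtype.val (h _ (X_mem_RR ha hy))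
  have p2 : Perp (bv 2) := ⟨by rw [B_bv]; decide, by rw [B_bv]; decide⟩
  have p3 : Perp (bv 3) := ⟨by rw [B_bv]; decide, by rw [B_bv]; decide⟩
  have key : ∀ a : V, (a = bv 0 ∨ a = bv 1) → (g : V ≃ₗ[ZMod 2] V) a = a := by
    intro a ha
    have hq : q a = 0 := by rcases ha with rfl | rfl <;> exact q_bv _
    have ha0 : a ≠ 0 := by rcases ha with rfl | rfl <;> exact bv_ne _
    have h6 : B a (bv 6) = 0 := by rcases ha with rfl | rfl <;> · rw [B_bv]; decide
    have b26 : B (bv 2) (bv 6) = 1 := by rw [B_bv]; decide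
    have b36 : B (bv 3) (bv 6) = 0 := by rw [B_bv]; decide
    have hne2 : a ≠ bv 2 := fun e => by rw [e, b26] at h6; exact absurd h6 (by decide)
    have h7 : B a (bv 7) = 0 := by rcases ha with rfl | rfl <;> · rw [B_bv]; decide
    have b37 : B (bv 3) (bv 7) = 1 := by rw [B_bv]; decide
    have hne3 : a ≠ bv 3 := fun e => by rw [e, b37] at h7; exact absurd h7 (by decide)
    have B2 : B a (bv 2) = 0 := by rcases ha with rfl | rfl <;> · rw [B_bv]; decide
    have B3 : B a (bv 3) = 0 := by rcases ha with rfl | rfl <;> · rw [B_bv]; decide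
    have h1 := (mem_of_commute hg hq (q_bv 2) B2 ha0 (bv_ne 2) hne2 (hX a _ ha p2)).1
    have h2 := (mem_of_commute hg hq (q_bv 3) B3 ha0 (bv_ne 3) hne3 (hX a _ ha p3)).1
    have h3 : B ((g : V ≃ₗ[ZMod 2] V) a) (bv 6) = 0 := by
      rcases h2 with e | e | e <;> rw [e]
      · exact h6
      · exact b36
      · rw [B_add_left, h6, b36, add_zero]
    rcases h1 with e | e | e
    · exact e
    · rw [e, b26] at h3; exact absurd h3 (by decide)
    · rw [e, B_add_left, h6, b26, zero_add] at h3; exact absurd h3 (by decide)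
  have k0 := key (bv 0) (Or.inl rfl)
  have k1 := key (bv 1) (Or.inr rfl)
  have hy : ∀ y, Perp y → (g : V ≃ₗ[ZMod 2] V) y = y := by
    intro y hy
    have e0 : (g : V ≃ₗ[ZMod 2] V) y = y ∨ (g : V ≃ₗ[ZMod 2] V) y = y + bv 0 := by
      refine eq_of_X (q_bv 0) hy.1 ?_ (bv_ne 0) ?_
      · have := O8_B hg (bv 0) y
        rw [k0] at this
        rw [this]; exact hy.1
      · have := X_conj hg (bv 0) y
        rw [k0, hX _ _ (Or.inl rfl) hy, mul_inv_cancel_right] at this
        exact this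
    have e1 : (g : V ≃ₗ[ZMod 2] V) y = y ∨ (g : V ≃ₗ[ZMod 2] V) y = y + bv 1 := by
      refine eq_of_X (q_bv 1) hy.2 ?_ (bv_ne 1) ?_
      · have := O8_B hg (bv 1) y
        rw [k1] at this
        rw [this]; exact hy.2
      · have := X_conj hg (bv 1) y
        rw [k1, hX _ _ (Or.inr rfl) hy, mul_inv_cancel_right] at this
        exact this
    rcases e0 with e0 | e0
    · exact e0
    · rcases e1 with e1 | e1
      · exact e1
      · exfalso
        have h1 : bv 0 = bv 1 := add_left_cancel (e0.symm.trans e1)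
        have h2 : B (bv 0) (bv 4) = B (bv 1) (bv 4) := by rw [h1]
        rw [b04, b14] at h2
        exact absurd h2 (by decide)
  have hL : ∀ v, Line ((g : V ≃ₗ[ZMod 2] V) v + v) := by
    intro v
    apply line_of
    intro y hy'
    have h1 := O8_B hg v y
    rw [hy y hy'] at h1
    rw [B_add_left, h1, z2_add_self]
  -- the images of `bv 4`, `bv 5`
  have h4 := hL (bv 4)
  have h5 := hL (bv 5)
  have q4 : q ((g : V ≃ₗ[ZMod 2] V) (bv 4)) = 0 := by rw [O8_q hg, q_bv]
  have q5 : q ((g : V ≃ₗ[ZMod 2] V) (bv 5)) = 0 := by rw [O8_q hg, q_bv]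
  have b : B ((g : V ≃ₗ[ZMod 2] V) (bv 4)) ((g : V ≃ₗ[ZMod 2] V) (bv 5)) = 0 := by rw [O8_B hg, b45]
  have r4 : (g : V ≃ₗ[ZMod 2] V) (bv 4) = bv 4 + ((g : V ≃ₗ[ZMod 2] V) (bv 4) + bv 4) := by
    rw [add_comm _ (bv 4), ← add_assoc, add_self, zero_add]
  have r5 : (g : V ≃ₗ[ZMod 2] V) (bv 5) = bv 5 + ((g : V ≃ₗ[ZMod 2] V) (bv 5) + bv 5) := by
    rw [add_comm _ (bv 5), ← add_assoc, add_self, zero_add]
  have b40 : B (bv 4) (bv 0) = 1 := by rw [B_comm]; exact b04
  have b41 : B (bv 4) (bv 1) = 0 := by rw [B_comm]; exact b14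
  have b50 : B (bv 5) (bv 0) = 0 := by rw [B_comm]; exact b05
  have b51 : B (bv 5) (bv 1) = 1 := by rw [B_comm]; exact b15
  have c4 : (g : V ≃ₗ[ZMod 2] V) (bv 4) = bv 4 ∨ (g : V ≃ₗ[ZMod 2] V) (bv 4) = bv 4 + bv 1 := by
    rcases h4 with e | e | e | e <;> rw [e] at r4
    · left; rwa [add_zero] at r4
    · exfalso
      rw [r4, q_add, q_bv, q_bv, b40] at q4; exact absurd q4 (by decide)
    · right; exact r4
    · exfalso
      rw [r4, q_add, q_add, q_bv, q_bv, q_bv, B_add_right, b40, b41, b01] at q4; exact absurd q4 (by decide)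
  have c5 : (g : V ≃ₗ[ZMod 2] V) (bv 5) = bv 5 ∨ (g : V ≃ₗ[ZMod 2] V) (bv 5) = bv 5 + bv 0 := by
    rcases h5 with e | e | e | e <;> rw [e] at r5
    · left; rwa [add_zero] at r5
    · right; exact r5
    · exfalso
      rw [r5, q_add, q_bv, q_bv, b51] at q5; exact absurd q5 (by decide)
    · exfalso
      rw [r5, q_add, q_add, q_bv, q_bv, q_bv, B_add_right, b50, b51, b01] at q5; exact absurd q5 (by decide)
  -- `v = y + α bv 4 + β bv 5`
  have hdec : ∀ v : V, v = (v + (B (bv 0) v • bv 4 + B (bv 1) v • bv 5)) + (B (bv 0) v • bv 4 + B (bv 1) v • bv 5) := by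
    intro v
    rw [add_assoc, add_self, add_zero]
  have hgv : ∀ v : V, (g : V ≃ₗ[ZMod 2] V) v = (v + (B (bv 0) v • bv 4 + B (bv 1) v • bv 5)) +
      (B (bv 0) v • (g : V ≃ₗ[ZMod 2] V) (bv 4) + B (bv 1) v • (g : V ≃ₗ[ZMod 2] V) (bv 5)) := by
    intro v
    conv_lhs => rw [hdec v]
    rw [map_add, hy _ (perp_sub v), map_add, map_smul, map_smul]
  rcases c4 with c4 | c4 <;> rcases c5 with c5 | c5
  · left
    apply Subtype.ext
    refine LinearEquiv.ext fun v => ?_
    rw [hgv, c4, c5, ← hdec]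
    rfl
  · exfalso
    rw [c4, c5, B_add_right, b45, b40] at b
    exact absurd b (by decide)
  · exfalso
    rw [c4, c5, B_add_left, b45, b15] at b
    exact absurd b (by decide)
  · right
    apply Subtype.ext
    refine LinearEquiv.ext fun v => ?_
    rw [hgv, c4, c5]
    change _ = X (bv 0) (bv 1) v
    rw [X_apply (q_bv 0) (q_bv 1) b01, smul_add, smul_add]
    generalize B (bv 0) v • bv 4 = s
    generalize B (bv 1) v • bv 5 = t
    generalize B (bv 0) v • bv 1 = k
    generalize B (bv 1) v • bv 0 = l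
    have e : v + (s + t) + (s + k + (t + l)) = v + k + l + ((s + s) + (t + t)) := by abel
    rw [e, add_self, add_self, add_zero, add_zero]

/-- **The root elements are dead.** -/
theorem dead_root {w : Om} (hw : IsRoot (w : V ≃ₗ[ZMod 2] V)) : Dead w := by
  have hfin : Finite Om := inferInstance
  -- the standard root element
  have hz : Dead zc := by
    intro β A C
    have hcon : ∀ h : Om, h * zc = zc * h → (∀ q ∈ OO2 zc, h * q = q * h) → h ∈ OO2 zc := by
      intro h _ hc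
      have h1 := cent_RR (g := h) fun r hr => hc r (RR_le hr)
      rcases h1 with rfl | rfl
      · exact one_mem _
      · apply RR_le
        exact X_mem_RR (Or.inl rfl) (Line.perp (Or.inr (Or.inr (Or.inl rfl))))
    obtain ⟨h1, h2⟩ := C.central center_Om hcon
    have h3 : (A : Set Om) ⊆ {1, zc} := by
      intro a ha
      exact cent_RR (g := a) fun r hr => h2 a ha r (RR_le hr)
    have h4 : (A : Set Om).ncard ≤ ({1, zc} : Set Om).ncard := Set.ncard_le_ncard h3 (Set.toFinite _)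
    have h5 : ({1, zc} : Set Om).ncard ≤ 2 := Set.ncard_insert_le _ _ |>.trans (by simp)
    have h6 : (A : Set Om).ncard = 4 := by
      change Nat.card A = 4
      exact C.A4
    omega
  obtain ⟨M, hM, h⟩ := conj_root hw
  have h1 := hz.map (cj ⟨M, hM⟩ : Om ≃* Om)
  have h2 : cj ⟨M, hM⟩ zc = w := by
    apply Subtype.ext
    rw [cj_coe]
    exact h
  rwa [h2] at h1

end Cfsg.Agent.OddHalf.NI3.Ex4.O8

end

-- merged: Cfsg.Agent.OddHalf.NI3.Ex4.OEight.Row
section

/-!
# (EX4), the row `Ω₈⁺(2)`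

`row_of` : the row from the three pieces `Pieces`.
-/

set_option autoImplicit false
set_option linter.style.haveILetI false

namespace Cfsg.Agent.OddHalf.NI3.Ex4.O8

open Subgroup Cfsg Cfsg.Agent.OddHalf.NI3.Ex4 Cfsg.Agent.OddHalf.D9.Cut
open Cfsg.Agent.StdO8.Model Cfsg.Agent.StdO8.Root Cfsg.Agent.StdO8.Aut

universe u

/-- the other pieces of the row -/
structure Pieces : Prop where
  c2 : ∀ w : Om, IsC2 (w : V ≃ₗ[ZMod 2] V) → Dead w
  c4 : Dead w0
  cls : ∀ w : Om, w * w = 1 → w ≠ 1 → ∃ α : MulAut Om, IsRoot ((α w : Om) : V ≃ₗ[ZMod 2] V) ∨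
    IsC2 ((α w : Om) : V ≃ₗ[ZMod 2] V) ∨ α w = w0

theorem dead (P : Pieces) {w : Om} (hw : w * w = 1) (hw1 : w ≠ 1) : Dead w := by
  obtain ⟨α, h⟩ := P.cls w hw hw1
  have h1 : Dead (α w) := by
    rcases h with h | h | h
    · exact dead_root h
    · exact P.c2 _ h
    · rw [h]; exact P.c4
  have h2 := h1.map (α.symm : Om ≃* Om)
  rwa [MulEquiv.symm_apply_apply] at h2

/-- **The row `Ω₈⁺(2)`.** -/
theorem row_of (P : Pieces) {X : Type u} [Group X] (h : XO82 X) : Row4 X := by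
  obtain ⟨F, hF, hF', hc, ⟨e⟩⟩ := h
  obtain ⟨e'⟩ := exists_equiv (F := F) hc
  have f : X ≃* Om := e.trans e'
  apply row4_of_dead
  intro w hw hw1
  have h1 : Dead (f w) := dead P (by rw [← map_mul, hw, map_one]) (fun h => hw1 (f.injective (by rw [h, map_one])))
  have h2 := h1.map f.symm
  rwa [MulEquiv.symm_apply_apply] at h2

end Cfsg.Agent.OddHalf.NI3.Ex4.O8

end

-- merged: Cfsg.Agent.OddHalf.NI3.Ex4.RowsAll
section

/-!
# (EX4) of THEOREM NIB: all rows

`rows4_of : O8.Pieces → Rows4`.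
-/

set_option autoImplicit false

namespace Cfsg.Agent.OddHalf.NI3.Ex4

universe u

/-- **All rows of (EX4)**, from the pieces of the row `Ω₈⁺(2)`. -/
theorem rows4_of (P : O8.Pieces) : Rows4.{u} := rows4 ⟨fun _ _ _ _ h => O8.row_of P h⟩

end Cfsg.Agent.OddHalf.NI3.Ex4

end

-- merged: Cfsg.Agent.OddHalf.NI3.Ex4.RowsFinal
section

/-!
# (EX4) of THEOREM NIB: the rows, without hypotheses

`row_o82` : the row `Ω₈⁺(2)`; `rows4All : Rows4`.
-/

set_option autoImplicit false

namespace Cfsg.Agent.OddHalf.NI3.Ex4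

universe u

theorem o8Pieces : O8.Pieces where
  c2 := fun _ h => O8.dead_c2 h
  c4 := O8.CFour.dead_w0
  cls := fun w h1 h2 => OEClass.main w h1 h2

/-- **All rows of (EX4).** -/
theorem rows4All : Rows4.{u} := rows4_of o8Pieces

end Cfsg.Agent.OddHalf.NI3.Ex4

end

private theorem dce_724cff3972c3 : _root_.True := by
  try have : _root_.True := by simp only [_root_.Cfsg.Agent.OddHalf.NI3.Ex4.O8.CFour.c0.eq_1]
  try have : _root_.True := by simp only [_root_.Cfsg.Agent.OddHalf.NI3.Ex4.O8.Line.eq_1]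
  try have : _root_.True := by simp only [_root_.Cfsg.Agent.OddHalf.NI3.Ex4.O8.CFour.diff'.eq_1]
  try have : _root_.True := by simp only [_root_.Cfsg.Agent.OddHalf.NI3.Ex4.O8.CFour.K.eq_1]
  try have : _root_.True := by simp only [_root_.Cfsg.Agent.OddHalf.NI3.Ex4.O8.CFour.chk.eq_1]
  try have : _root_.True := by simp only [_root_.Cfsg.Agent.OddHalf.NI3.Ex4.O8.CFour.wd.eq_1]
  try have : _root_.True := by simp only [_root_.Cfsg.Agent.OddHalf.NI3.Ex4.O8.CFour.W.eq_1]
  exact _root_.True.intro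
end
end
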